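import Mathlib
import Cfsg.Agent.LThreeFi23.TwoCl
import Cfsg.Agent.LThreeFi23.CentUu

/-!
# `Fi23`: the centralizer of an element of order 3 whose centralizer order is divisible by `3^13` has order prime to 5
(helper243)

A Sylow 3-subgroup of order `3^13` has orbits of length divisible by 81 on the 31671 transpositions; an element of order 3
commuting with an element of order 5 is conjugate to `uu` (centralizer of order 13756055040) or `xC` (135 fixed points).
-/

set_option autoImplicit false
set_option linter.constructorNameAsVariable false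

namespace Cfsg.Agent.H243.Fi23Kill

open Subgroup Cfsg Cfsg.Agent.LThreeFi23 Cfsg.Agent.Fischer.Fi23Hom
open Cfsg.Spor (Fi23)

/-- the fixed points of `(a b)(h i)` -/
def L135 : List ℕ := [0, 1, 2, 3, 4, 178, 261, 384, 558, 798, 1031, 1424, 1635, 1945, 2226, 2249, 2527, 2628, 2963, 2969, 2974,
  2994, 3017, 3028, 3032, 3046, 3047, 3323, 3325, 3474, 3533, 3902, 3908, 3913, 3924, 3931, 3939, 3967, 3974,
  3978, 3992, 3993, 4002, 4008, 4025, 4027, 4150, 4236, 4238, 4241, 4527, 4542, 5009, 5015, 5020, 5027, 5034,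
  5042, 5051, 5052, 5058, 5059, 5067, 5069, 5082, 5086, 5098, 5099, 5102, 5108, 5123, 5125, 5129, 5130, 5135,
  5137, 5156, 5157, 5265, 5268, 5287, 5289, 5292, 5297, 5689, 5703, 5726, 6318, 6322, 6327, 6330, 6331, 6335,
  6336, 6342, 6344, 6350, 6351, 6357, 6359, 6368, 6370, 6378, 6384, 6390, 6391, 6396, 6398, 6409, 6410, 6417,
  6419, 6524, 6529, 6531, 6539, 6542, 6547, 6551, 7836, 7837, 7844, 7845, 7858, 7859, 7882, 7883, 7890, 7891,
  7906, 7907, 8001, 8002, 8005, 8006]

theorem L135_len : L135.length = 135 := by decide +kernel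

theorem L135_nodup : L135.Nodup := by decide +kernel

theorem L135_chk : pchk [([.a, .b, .h, .i], false)] L135 = true := by decide +kernel

theorem mem_L135 {p : ℕ} : p ∈ L135 ↔ p < 31671 ∧ rho xC p = p := by
  rw [← pchk_mem L135_chk p]
  have h : Pat [([.a, .b, .h, .i], false)] p ↔ rho xC p = p := by
    unfold Pat
    rw [List.forall_mem_singleton, w_abhi]
    change (rho xC p ≠ p ↔ false = true) ↔ _
    simp
  rw [h]

/-- a set with orbits of length divisible by `n` has cardinality divisible by `n` -/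
theorem dvd_of_orbits {P α : Type*} [Group P] [MulAction P α] [Finite α] {n : ℕ}
    (h : ∀ a : α, n ∣ Nat.card (MulAction.orbit P a)) : n ∣ Nat.card α := by
  classical
  have e := MulAction.selfEquivSigmaOrbits P α
  have : Finite (Quotient (MulAction.orbitRel P α)) := inferInstance
  have := Fintype.ofFinite (Quotient (MulAction.orbitRel P α))
  have hf : ∀ ω : Quotient (MulAction.orbitRel P α), Finite (MulAction.orbit P ω.out) := fun ω => inferInstance
  rw [Nat.card_congr e, Nat.card_sigma]
  exact Finset.dvd_sum fun ω _ => h _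

theorem card_H : Nat.card ↥Fischer.Fi23Orb.H = 129123503308800 := by
  have h1 := Subgroup.card_mul_index Fischer.Fi23Orb.H
  rw [Fischer.Fi23Simple.index_H, card_G] at h1
  exact Nat.eq_of_mul_eq_mul_right (by norm_num : 0 < 31671) (h1.trans (by norm_num))

/-- the stabilizer of a point -/
def Sp (p : ℕ) : Subgroup Fi23 where
  carrier := {g | rho g p = p}
  one_mem' := by
    change rho 1 p = p
    rw [map_one]; rfl
  mul_mem' := by
    intro a b ha hb
    change rho (a * b) p = p
    rw [map_mul, Equiv.Perm.mul_apply, show rho b p = p from hb, show rho a p = p from ha]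
  inv_mem' := by
    intro a ha
    exact fix_inv ha

theorem card_Sp {p : ℕ} (hp : p < 31671) : Nat.card ↥(Sp p) = 129123503308800 := by
  obtain ⟨k, rfl⟩ := exists_rep hp
  rw [← card_H]
  have h1 : Sp (rho k 0) = Fischer.Fi23Orb.H.map (MulAut.conj k).toMonoidHom := by
    ext g
    have h2 : g ∈ Sp (rho k 0) ↔ k⁻¹ * g * k ∈ Fischer.Fi23Orb.H := by
      rw [← stab_facts.1]
      change rho g (rho k 0) = rho k 0 ↔ _
      rw [map_mul, map_mul, map_inv, Equiv.Perm.mul_apply, Equiv.Perm.mul_apply, Equiv.Perm.inv_eq_iff_eq]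
    rw [h2]
    constructor
    · intro h
      exact ⟨_, h, by change k * (k⁻¹ * g * k) * k⁻¹ = g; group⟩
    · rintro ⟨x, hx, rfl⟩
      change k⁻¹ * (k * x * k⁻¹) * k ∈ _
      have : k⁻¹ * (k * x * k⁻¹) * k = x := by group
      rw [this]
      exact hx
  rw [h1]
  exact Nat.card_congr (Fischer.Fi23Orb.H.equivMapOfInjective _ (MulAut.conj k).injective).symm.toEquiv

/-- the fixed points of `z` -/
def Fx (z : Fi23) : Type := {p : ℕ // p < 31671 ∧ rho z p = p}

instance (z : Fi23) : Finite (Fx z) :=
  Finite.of_injective (fun p : Fx z => (⟨p.1, p.2.1⟩ : Fin 31671)) fun _ _ h => Subtype.ext (congrArg Fin.val h)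

/-- the centralizer acts on the fixed points -/
noncomputable instance (z : Fi23) : MulAction ↥(centralizer ({z} : Set Fi23)) (Fx z) where
  smul g p := ⟨rho g p.1, act_lt g p.2.1, by
    have h1 : z * (g : Fi23) = g * z := (mem_centralizer_singleton_iff.1 g.2).symm
    rw [← Equiv.Perm.mul_apply, ← map_mul, h1, map_mul, Equiv.Perm.mul_apply, p.2.2]⟩
  one_smul p := Subtype.ext (by
    change rho ((1 : ↥(centralizer ({z} : Set Fi23))) : Fi23) p.1 = p.1
    rw [Subgroup.coe_one, map_one]; rfl)
  mul_smul g h p := Subtype.ext (by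
    change rho ((g * h : ↥(centralizer ({z} : Set Fi23))) : Fi23) p.1 = rho g (rho h p.1)
    rw [Subgroup.coe_mul, map_mul, Equiv.Perm.mul_apply])

theorem smul_coe (z : Fi23) (g : ↥(centralizer ({z} : Set Fi23))) (p : Fx z) : (g • p).1 = rho g p.1 := rfl

/-- a 3-subgroup of order `3^13` centralizing `z` has orbits of length divisible by 81 -/
theorem dvd_fx {z : Fi23} (h13 : 3 ^ 13 ∣ Nat.card ↥(centralizer ({z} : Set Fi23))) : 81 ∣ Nat.card (Fx z) := by
  have : Fact (Nat.Prime 3) := ⟨Nat.prime_three⟩
  obtain ⟨P, hP⟩ := Sylow.exists_subgroup_card_pow_prime 3 h13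
  refine dvd_of_orbits (P := ↥P) (α := Fx z) fun a => ?_
  have h1 : Nat.card ↑(MulAction.orbit (↥P) a) * Nat.card ↥(MulAction.stabilizer (↥P) a) = Nat.card ↥P := by
    rw [← Nat.card_prod]
    exact Nat.card_congr (MulAction.orbitProdStabilizerEquivGroup (↥P) a)
  rw [hP] at h1
  -- the stabilizer embeds in the point stabilizer
  have h2 : Nat.card ↥(MulAction.stabilizer ↥P a) ∣ 129123503308800 := by
    rw [← card_Sp a.2.1]
    let f : ↥(MulAction.stabilizer ↥P a) →* ↥(Sp a.1) :=
      { toFun := fun g => ⟨((g : ↥P) : ↥(centralizer ({z} : Set Fi23))), by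
          have h3 := g.2
          rw [MulAction.mem_stabilizer_iff] at h3
          exact congrArg Subtype.val h3⟩
        map_one' := rfl
        map_mul' := fun _ _ => rfl }
    have hf : Function.Injective f := by
      intro x y hxy
      have h3 := congrArg Subtype.val hxy
      exact Subtype.ext (Subtype.ext (Subtype.ext h3))
    rw [Nat.card_congr (MonoidHom.ofInjective hf).toEquiv]
    exact Subgroup.card_subgroup_dvd_card _
  have h3 : Nat.card ↥(MulAction.stabilizer ↥P a) ∣ 3 ^ 13 := Dvd.intro_left _ h1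
  obtain ⟨j, hj, hj'⟩ := (Nat.dvd_prime_pow Nat.prime_three).1 h3
  have hj9 : j ≤ 9 := by
    by_contra hcon
    push Not at hcon
    have h4 : 3 ^ 10 ∣ 129123503308800 := (pow_dvd_pow 3 hcon).trans (hj' ▸ h2)
    norm_num at h4
  rw [hj'] at h1
  have h5 : 3 ^ 13 = 3 ^ (13 - j) * 3 ^ j := by
    rw [← pow_add]; congr 1; omega
  rw [h5] at h1
  have h6 : Nat.card ↑(MulAction.orbit (↥P) a) = 3 ^ (13 - j) := Nat.eq_of_mul_eq_mul_right (pow_pos (by norm_num) j) h1
  rw [h6]
  have : (81 : ℕ) = 3 ^ 4 := by norm_num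
  rw [this]
  exact pow_dvd_pow 3 (by omega)

theorem card_fx_xC : Nat.card (Fx xC) = 135 := by
  have e : Fx xC ≃ {p : ℕ // p ∈ L135.toFinset} := Equiv.subtypeEquivRight fun p => by
    rw [List.mem_toFinset, mem_L135]
  rw [Nat.card_congr e, Nat.card_eq_fintype_card, Fintype.card_coe, List.toFinset_card_of_nodup L135_nodup, L135_len]

theorem card_centralizer_conj {G : Type*} [Group G] {x y : G} (h : IsConj x y) :
    Nat.card ↥(centralizer ({x} : Set G)) = Nat.card ↥(centralizer ({y} : Set G)) := by
  obtain ⟨c, hc⟩ := isConj_iff.1 h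
  have h1 : centralizer ({y} : Set G) = (centralizer ({x} : Set G)).map (MulAut.conj c).toMonoidHom := by
    ext g
    rw [mem_centralizer_singleton_iff]
    constructor
    · intro h
      refine ⟨c⁻¹ * g * c, ?_, by change c * (c⁻¹ * g * c) * c⁻¹ = g; group⟩
      change c⁻¹ * g * c ∈ centralizer ({x} : Set G)
      rw [mem_centralizer_singleton_iff]
      rw [← hc] at h
      calc c⁻¹ * g * c * x = c⁻¹ * (g * (c * x * c⁻¹)) * c := by group
        _ = c⁻¹ * ((c * x * c⁻¹) * g) * c := by rw [h]
        _ = x * (c⁻¹ * g * c) := by group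
    · rintro ⟨g, hg, rfl⟩
      have hg' : g * x = x * g := mem_centralizer_singleton_iff.1 hg
      change c * g * c⁻¹ * y = y * (c * g * c⁻¹)
      rw [← hc]
      calc c * g * c⁻¹ * (c * x * c⁻¹) = c * (g * x) * c⁻¹ := by group
        _ = c * (x * g) * c⁻¹ := by rw [hg']
        _ = _ := by group
  rw [h1]
  exact Nat.card_congr ((centralizer ({x} : Set G)).equivMapOfInjective _ (MulAut.conj c).injective).toEquiv

/-- **An element of order 3 of `Fi23` with centralizer order divisible by `3^13` and by 5 does not exist.** -/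
theorem no_elt {z : Fi23} (ho : orderOf z = 3) (h13 : 3 ^ 13 ∣ Nat.card ↥(centralizer ({z} : Set Fi23)))
    (h5 : 5 ∣ Nat.card ↥(centralizer ({z} : Set Fi23))) : False := by
  have : Fact (Nat.Prime 5) := ⟨by norm_num⟩
  obtain ⟨y, hy⟩ := exists_prime_orderOf_dvd_card' (G := ↥(centralizer ({z} : Set Fi23))) 5 h5
  have hy5 : ((y : Fi23)) ^ 5 = 1 := by
    have h1 : y ^ 5 = 1 := by rw [← hy]; exact pow_orderOf_eq_one y
    exact congrArg Subtype.val h1
  have hy1 : (y : Fi23) ≠ 1 := by
    intro h
    have : y = 1 := Subtype.ext h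
    rw [this, orderOf_one] at hy
    norm_num at hy
  have hz3 : Tel z := ⟨1, by rw [pow_one, ← ho]; exact pow_orderOf_eq_one z⟩
  have hz1 : z ≠ 1 := by
    rintro rfl
    rw [orderOf_one] at ho
    norm_num at ho
  have hzy : z * y = y * z := (mem_centralizer_singleton_iff.1 y.2).symm
  rcases two_classes (r := 5) (by norm_num) le_rfl hy5 hy1 hz3 hz1 hzy with h | h
  · rw [card_centralizer_conj h, card_C] at h13
    norm_num at h13
  · rw [card_centralizer_conj h] at h13
    have h1 := dvd_fx h13
    rw [card_fx_xC] at h1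
    norm_num at h1

/-- the same for groups isomorphic to `Fi23` -/
theorem fi23_false {K : Type*} [Group K] (h : Spor.IsoFi23 K) {z : K} (ho : orderOf z = 3)
    (h13 : 3 ^ 13 ∣ Nat.card ↥(centralizer ({z} : Set K))) (h5 : 5 ∣ Nat.card ↥(centralizer ({z} : Set K))) : False := by
  obtain ⟨e⟩ := h
  have h1 : Nat.card ↥(centralizer ({z} : Set K)) = Nat.card ↥(centralizer ({e z} : Set Fi23)) := by
    refine Nat.card_congr ?_
    exact
      { toFun := fun x => ⟨e x, mem_centralizer_singleton_iff.2 (by
          rw [← map_mul, ← map_mul, mem_centralizer_singleton_iff.1 x.2])⟩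
        invFun := fun x => ⟨e.symm x, mem_centralizer_singleton_iff.2 (by
          apply e.injective
          rw [map_mul, map_mul, e.apply_symm_apply, mem_centralizer_singleton_iff.1 x.2])⟩
        left_inv := fun x => Subtype.ext (e.symm_apply_apply x)
        right_inv := fun x => Subtype.ext (e.apply_symm_apply x) }
  rw [h1] at h13 h5
  exact no_elt ((orderOf_injective e.toMonoidHom e.injective z).trans ho) h13 h5

end Cfsg.Agent.H243.Fi23Kill
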