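import Mathlib

/-!
# Counting orbits of a 3-group on a normal subgroup of order 128 (helper243)
-/

set_option autoImplicit false

namespace Cfsg.Agent.H243.Count

open Subgroup

universe u

variable {X : Type u} [Group X]

/-- the centralizer of `e` in `R` -/
def cR (R : Subgroup X) (e : X) : Subgroup ↥R := (centralizer ({e} : Set X)).subgroupOf R

theorem mem_cR {R : Subgroup X} {e : X} {x : ↥R} : x ∈ cR R e ↔ e * x = x * e := by
  rw [cR, mem_subgroupOf, mem_centralizer_singleton_iff]
  exact eq_comm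

theorem index_cR {R : Subgroup X} {t y : X}
    (h : ∀ x : ↥R, (x : X) * y = y * x ∨ (x : X) * y = t * (y * x)) (tt : t * t = 1) (ct : ∀ x ∈ R, x * t = t * x) :
    (cR R y).index ≤ 2 := by
  by_cases hall : ∀ x : ↥R, x ∈ cR R y
  · have : cR R y = ⊤ := by
      rw [eq_top_iff]
      intro x _
      exact hall x
    rw [this, Subgroup.index_top]
    norm_num
  · push Not at hall
    obtain ⟨a, ha⟩ := hall
    refine le_of_eq ((Subgroup.index_eq_two_iff_exists_notMem_and' (H := cR R y)).2 ⟨a, ha, fun b => ?_⟩)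
    by_cases hb : b ∈ cR R y
    · exact Or.inr hb
    · left
      rw [mem_cR] at ha hb ⊢
      have h1 := (h a).resolve_left fun h2 => ha h2.symm
      have h2 := (h b).resolve_left fun h2 => hb h2.symm
      have h3 : (y : X) * a = t * (a * y) := by
        rw [h1, ← mul_assoc, tt, one_mul]
      rw [Subgroup.coe_mul]
      symm
      calc (a : X) * b * y = a * (b * y) := by group
        _ = (a * t) * (y * b) := by rw [h2]; group
        _ = (t * a) * (y * b) := by rw [ct a a.2]
        _ = t * (a * y) * b := by group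
        _ = y * a * b := by rw [← h3]
        _ = y * (a * b) := by group

theorem card_cR_of_two [Finite X] {R : Subgroup X} {t y y' e : X} (hR : Nat.card ↥R = 128)
    (h : ∀ x : ↥R, (x : X) * y = y * x ∨ (x : X) * y = t * (y * x))
    (h' : ∀ x : ↥R, (x : X) * y' = y' * x ∨ (x : X) * y' = t * (y' * x))
    (tt : t * t = 1) (ct : ∀ x ∈ R, x * t = t * x)
    (he : ∀ x ∈ R, x * y = y * x → x * y' = y' * x → e * x = x * e) : 32 ≤ Nat.card ↥(cR R e) := by
  have h1 := index_cR h tt ct
  have h2 := index_cR h' tt ct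
  have h3 : (cR R y ⊓ cR R y').index ≤ 4 :=
    Subgroup.index_inf_le.trans ((Nat.mul_le_mul h1 h2).trans (by norm_num))
  have h4 : cR R y ⊓ cR R y' ≤ cR R e := by
    intro x hx
    obtain ⟨hx1, hx2⟩ := mem_inf.1 hx
    rw [mem_cR] at hx1 hx2
    rw [mem_cR]
    exact he x x.2 hx1.symm hx2.symm
  have h5 := Subgroup.card_mul_index (cR R y ⊓ cR R y')
  rw [hR] at h5
  have h6 : Nat.card ↥(cR R y ⊓ cR R y') ≤ Nat.card ↥(cR R e) := Subgroup.card_le_of_le h4
  have h7 : 128 ≤ Nat.card ↥(cR R y ⊓ cR R y') * 4 := by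
    rw [← h5]
    exact Nat.mul_le_mul_left _ h3
  omega

/-- conjugation action -/
@[instance_reducible]
def act (R : Subgroup X) [R.Normal] (E : Subgroup X) : MulAction ↥E ↥R :=
  MulAction.compHom ↥R ((MulAut.conjNormal (H := R)).comp E.subtype)

theorem act_fixed (R : Subgroup X) [R.Normal] (E : Subgroup X) (e : ↥E) (x : ↥R) :
    (letI := act R E; e • x = x) ↔ (e : X) * x = x * e := by
  let _ := act R E
  have h1 : ((e • x : ↥R) : X) = e * x * (e : X)⁻¹ := rfl
  constructor
  · intro h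
    have h2 := congrArg (fun z : ↥R => (z : X)) h
    simp only [h1] at h2
    rw [mul_inv_eq_iff_eq_mul] at h2
    exact h2
  · intro h
    apply Subtype.ext
    rw [h1, h, mul_inv_cancel_right]

/-- fixed points mod 3 -/
theorem card_cR_mod [Finite X] {R : Subgroup X} [R.Normal] {e : X} (he : e ^ 3 = 1) :
    Nat.card ↥R ≡ Nat.card ↥(cR R e) [MOD 3] := by
  have : Fact (Nat.Prime 3) := ⟨Nat.prime_three⟩
  let _ := act R (zpowers e)
  have hp : IsPGroup 3 ↥(zpowers e) := by
    intro x
    obtain ⟨n, hn⟩ := mem_zpowers_iff.1 x.2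
    refine ⟨1, Subtype.ext ?_⟩
    rw [pow_one, Subgroup.coe_pow, ← hn, ← zpow_natCast, zpow_comm, zpow_natCast, he, one_zpow]
    rfl
  have h1 := hp.card_modEq_card_fixedPoints ↥R
  have h2 : Nat.card (MulAction.fixedPoints ↥(zpowers e) ↥R) = Nat.card ↥(cR R e) := by
    refine Nat.card_congr (Equiv.subtypeEquivRight fun x => ?_)
    rw [MulAction.mem_fixedPoints, mem_cR]
    constructor
    · intro h
      exact (act_fixed R (zpowers e) ⟨e, mem_zpowers e⟩ x).1 (h _)
    · intro h g
      refine (act_fixed R (zpowers e) g x).2 ?_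
      obtain ⟨n, hn⟩ := mem_zpowers_iff.1 g.2
      rw [← hn]
      exact ((show Commute e x from h).zpow_left n)
  rwa [h2] at h1

theorem card_cR_eq [Finite X] {R : Subgroup X} [R.Normal] {e : X} (he : e ^ 3 = 1) (hR : Nat.card ↥R = 128)
    (h32 : 32 ≤ Nat.card ↥(cR R e)) (hne : ∃ x ∈ R, e * x ≠ x * e) : Nat.card ↥(cR R e) = 32 := by
  have h1 := card_cR_mod (R := R) he
  have h2 : Nat.card ↥(cR R e) ∣ 128 := by
    rw [← hR]
    exact Subgroup.card_subgroup_dvd_card _
  rw [hR] at h1
  have h3 : Nat.card ↥(cR R e) ≠ 128 := by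
    intro h
    have h4 : cR R e = ⊤ := Subgroup.eq_top_of_card_eq _ (by rw [h, hR])
    obtain ⟨x, hx, hex⟩ := hne
    apply hex
    have : (⟨x, hx⟩ : ↥R) ∈ cR R e := by rw [h4]; trivial
    exact mem_cR.1 this
  have h5 : Nat.card ↥(cR R e) ∈ Nat.divisors 128 := Nat.mem_divisors.2 ⟨h2, by norm_num⟩
  have h6 : Nat.divisors 128 = {1, 2, 4, 8, 16, 32, 64, 128} := by decide +kernel
  rw [h6] at h5
  simp only [Finset.mem_insert, Finset.mem_singleton] at h5
  unfold Nat.ModEq at h1
  omega

/-- **The orbit count.** -/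
theorem dvd_count [Finite X] {R : Subgroup X} [R.Normal] (E : Subgroup X) (hR : Nat.card ↥R = 128)
    (h32 : ∀ e ∈ E, e ≠ 1 → Nat.card ↥(cR R e) = 32) : Nat.card ↥E ∣ 128 + 32 * (Nat.card ↥E - 1) := by
  classical
  let _ := act R E
  have : Fintype ↥E := Fintype.ofFinite _
  have : ∀ g : ↥E, Fintype (MulAction.fixedBy ↥R g) := fun g => Fintype.ofFinite _
  have : Fintype (Quotient (MulAction.orbitRel ↥E ↥R)) := Fintype.ofFinite _
  have h1 := MulAction.sum_card_fixedBy_eq_card_orbits_mul_card_group ↥E ↥R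
  have h2 : ∀ g : ↥E, Fintype.card (MulAction.fixedBy ↥R g) = Nat.card ↥(cR R (g : X)) := by
    intro g
    rw [← Nat.card_eq_fintype_card]
    refine Nat.card_congr (Equiv.subtypeEquivRight fun x => ?_)
    rw [MulAction.mem_fixedBy, mem_cR]
    exact act_fixed R E g x
  have h3 : ∑ g : ↥E, Fintype.card (MulAction.fixedBy ↥R g) = 128 + 32 * (Nat.card ↥E - 1) := by
    rw [← Finset.add_sum_erase _ _ (Finset.mem_univ (1 : ↥E)), h2]
    have h4 : Nat.card ↥(cR R ((1 : ↥E) : X)) = 128 := by
      have : cR R ((1 : ↥E) : X) = ⊤ := by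
        rw [eq_top_iff]
        intro x _
        rw [mem_cR]
        simp
      rw [this, Subgroup.card_top, hR]
    rw [h4]
    congr 1
    rw [Finset.sum_congr rfl (g := fun _ => 32), Finset.sum_const, Finset.card_erase_of_mem (Finset.mem_univ _),
      Finset.card_univ, Nat.card_eq_fintype_card, smul_eq_mul, mul_comm]
    intro g hg
    rw [h2]
    exact h32 g g.2 fun h => (Finset.mem_erase.1 hg).1 (Subtype.ext h)
  rw [← h3, h1, Nat.card_eq_fintype_card]
  exact Dvd.intro_left _ rfl

end Cfsg.Agent.H243.Count
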