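import Mathlib

/-!
# Groups with a faithful symplectic commutator form acting with the central element as `-1` (helper243)

`R` acts on `V ≠ 0` over a field of characteristic `≠ 2` by `ρ : R →* End V`, `t ∈ Z(R)` with `ρ t = -1`, all commutators of
`R` lie in `{1, t}`, and every `x ∉ {1, t}` has some `y` with `[x, y] = t`.

* `linInd` : the operators `ρ x`, `x` in a transversal of `{1, t}`, are linearly independent;
* `card_le` : `|R| ≤ 2 (dim V)²`.
-/

set_option autoImplicit false

namespace Cfsg.Agent.H243.LinInd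

open Module

variable {K : Type*} [Field K] {V : Type*} [AddCommGroup V] [Module K V] {R : Type*} [Group R]

/-- the hypotheses -/
structure Hyp (ρ : R →* Module.End K V) (t : R) : Prop where
  two : (2 : K) ≠ 0
  neg : ρ t = -1
  tt : t * t = 1
  cen : ∀ x : R, x * t = t * x
  comm : ∀ x y : R, x * y = y * x ∨ x * y = t * (y * x)
  nd : ∀ x : R, x ≠ 1 → x ≠ t → ∃ y : R, x * y = t * (y * x)

variable {ρ : R →* Module.End K V} {t : R}

theorem Hyp.isUnit (x : R) : ρ x * ρ x⁻¹ = 1 := by rw [← map_mul, mul_inv_cancel, map_one]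

theorem Hyp.isUnit' (x : R) : ρ x⁻¹ * ρ x = 1 := by rw [← map_mul, inv_mul_cancel, map_one]

theorem Hyp.ne_zero [Nontrivial V] (x : R) : ρ x ≠ 0 := by
  intro h
  have h1 := Hyp.isUnit (ρ := ρ) x
  rw [h, zero_mul] at h1
  exact zero_ne_one h1

/-- **Linear independence.** -/
theorem Hyp.linInd_aux [Nontrivial V] (h : Hyp ρ t) (n : ℕ) : ∀ (S : Finset R), S.card ≤ n →
    (∀ s ∈ S, ∀ s' ∈ S, s ≠ s' → s⁻¹ * s' ≠ t) → ∀ (c : R → K), ∑ s ∈ S, c s • ρ s = 0 → ∀ s ∈ S, c s = 0 := by
  induction n with
  | zero =>
    intro S hS _ c _ s hs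
    have : S = ∅ := Finset.card_eq_zero.1 (Nat.le_zero.1 hS)
    rw [this] at hs
    exact absurd hs (Finset.notMem_empty s)
  | succ n ih =>
    intro S hS hST c hc s0 hs0
    by_cases hone : S = {s0}
    · rw [hone, Finset.sum_singleton] at hc
      exact (smul_eq_zero.1 hc).resolve_right (Hyp.ne_zero s0)
    · obtain ⟨s1, hs1, hne⟩ : ∃ s1 ∈ S, s1 ≠ s0 := by
        by_contra hcon
        push Not at hcon
        apply hone
        ext x
        rw [Finset.mem_singleton]
        exact ⟨fun hx => hcon x hx, fun hx => hx ▸ hs0⟩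
      obtain ⟨y, hy⟩ := h.nd (s1⁻¹ * s0) (fun h1 => hne (inv_mul_eq_one.1 h1)) (hST s1 hs1 s0 hs0 hne)
      -- the sign of `y` on `s`
      classical
      have hsgn : ∀ s : R, (s * y = y * s) → ρ y * ρ s * ρ y⁻¹ = ρ s := by
        intro s hs
        rw [← map_mul, ← map_mul, ← hs, mul_assoc, mul_inv_cancel, mul_one]
      have hsgn' : ∀ s : R, ¬ (s * y = y * s) → ρ y * ρ s * ρ y⁻¹ = - ρ s := by
        intro s hs
        have h1 := (h.comm y s).resolve_left (fun h2 => hs h2.symm)
        have h2 : y * s * y⁻¹ = t * s := by rw [h1]; group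
        rw [← map_mul, ← map_mul, h2, map_mul, h.neg, neg_one_mul]
      have hsum : ∑ s ∈ S, c s • (ρ y * ρ s * ρ y⁻¹) = 0 := by
        have h1 : ∑ s ∈ S, c s • (ρ y * ρ s * ρ y⁻¹) = ρ y * (∑ s ∈ S, c s • ρ s) * ρ y⁻¹ := by
          rw [Finset.mul_sum, Finset.sum_mul]
          refine Finset.sum_congr rfl fun s _ => ?_
          rw [mul_smul_comm, smul_mul_assoc]
        rw [h1, hc, mul_zero, zero_mul]
      have hp : ∑ s ∈ S.filter (fun s => s * y = y * s), c s • ρ s +
          ∑ s ∈ S.filter (fun s => ¬ (s * y = y * s)), c s • ρ s = 0 := by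
        rw [Finset.sum_filter_add_sum_filter_not, hc]
      have hm : ∑ s ∈ S.filter (fun s => s * y = y * s), c s • ρ s -
          ∑ s ∈ S.filter (fun s => ¬ (s * y = y * s)), c s • ρ s = 0 := by
        rw [← hsum, ← Finset.sum_filter_add_sum_filter_not S (fun s => s * y = y * s)
          (fun s => c s • (ρ y * ρ s * ρ y⁻¹)), sub_eq_add_neg, ← Finset.sum_neg_distrib]
        congr 1
        · refine Finset.sum_congr rfl fun s hs => ?_
          rw [hsgn s (Finset.mem_filter.1 hs).2]
        · refine Finset.sum_congr rfl fun s hs => ?_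
          rw [hsgn' s (Finset.mem_filter.1 hs).2, smul_neg]
      have h1 : ∑ s ∈ S.filter (fun s => s * y = y * s), c s • ρ s = 0 := by
        have h2 : (2 : K) • ∑ s ∈ S.filter (fun s => s * y = y * s), c s • ρ s = 0 := by
          rw [two_smul]
          have := congrArg₂ (· + ·) hp hm
          simpa using this
        exact (smul_eq_zero.1 h2).resolve_left h.two
      have h2 : ∑ s ∈ S.filter (fun s => ¬ (s * y = y * s)), c s • ρ s = 0 := by
        rw [h1, zero_add] at hp
        exact hp
      have hlt : ∀ P : R → Prop, ∀ [DecidablePred P], (∃ s ∈ S, ¬ P s) → (S.filter P).card ≤ n := by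
        intro P _ ⟨s, hs, hPs⟩
        have h3 : S.filter P ⊂ S := by
          refine Finset.filter_ssubset.2 ⟨s, hs, hPs⟩
        have h4 := Finset.card_lt_card h3
        omega
      have hsub : ∀ P : R → Prop, ∀ [DecidablePred P], ∀ s ∈ S.filter P, ∀ s' ∈ S.filter P, s ≠ s' → s⁻¹ * s' ≠ t :=
        fun P _ s hs s' hs' => hST s (Finset.mem_filter.1 hs).1 s' (Finset.mem_filter.1 hs').1
      -- `y` distinguishes `s0` and `s1`
      have hdist : ¬ ((s0 * y = y * s0) ↔ (s1 * y = y * s1)) := by
        intro hiff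
        have ht1 : t ≠ 1 := by
          intro h3
          have h4 := h.neg
          rw [h3, map_one] at h4
          have h5 : (2 : K) • (1 : Module.End K V) = 0 := by
            rw [two_smul]
            nth_rewrite 1 [h4]
            exact neg_add_cancel 1
          exact one_ne_zero ((smul_eq_zero.1 h5).resolve_left h.two)
        apply ht1
        have key : s1⁻¹ * s0 * y = y * (s1⁻¹ * s0) := by
          by_cases h0 : s0 * y = y * s0
          · have h3 := hiff.1 h0
            have h4 : s1⁻¹ * y = y * s1⁻¹ := by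
              rw [inv_mul_eq_iff_eq_mul, ← mul_assoc, h3, mul_assoc, mul_inv_cancel, mul_one]
            rw [mul_assoc, h0, ← mul_assoc, h4, mul_assoc]
          · have h3 : ¬ (s1 * y = y * s1) := fun h4 => h0 (hiff.2 h4)
            have h4 := (h.comm s0 y).resolve_left h0
            have h5 := (h.comm s1 y).resolve_left h3
            have h6 : s1⁻¹ * y = t * (y * s1⁻¹) := by
              have h7 : y = s1⁻¹ * (t * (y * s1)) := by rw [← h5]; group
              have h8 : y * s1⁻¹ = t * (s1⁻¹ * y) := by
                calc y * s1⁻¹ = s1⁻¹ * (t * (y * s1)) * s1⁻¹ := by rw [← h7]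
                  _ = s1⁻¹ * t * y := by group
                  _ = t * s1⁻¹ * y := by rw [h.cen]
                  _ = t * (s1⁻¹ * y) := by group
              rw [h8, ← mul_assoc, h.tt, one_mul]
            calc s1⁻¹ * s0 * y = s1⁻¹ * (s0 * y) := by group
              _ = s1⁻¹ * t * y * s0 := by rw [h4]; group
              _ = t * (s1⁻¹ * y) * s0 := by rw [h.cen]; group
              _ = (t * t) * (y * s1⁻¹) * s0 := by rw [h6]; group
              _ = y * (s1⁻¹ * s0) := by rw [h.tt]; group
        have h3 := hy.symm.trans key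
        exact mul_eq_right.1 h3
      by_cases h0 : s0 * y = y * s0
      · refine ih (S.filter (fun s => s * y = y * s)) (hlt _ ⟨s1, hs1, fun h3 => hdist ⟨fun _ => h3, fun _ => h0⟩⟩)
          (hsub _) c h1 s0 (Finset.mem_filter.2 ⟨hs0, h0⟩)
      · refine ih (S.filter (fun s => ¬ (s * y = y * s))) (hlt _ ⟨s1, hs1, fun h3 => ?_⟩)
          (hsub _) c h2 s0 (Finset.mem_filter.2 ⟨hs0, h0⟩)
        exact hdist ⟨fun h4 => absurd h4 h0, fun h4 => absurd h4 h3⟩

theorem Hyp.card_le [Nontrivial V] [FiniteDimensional K V] [Finite R] (h : Hyp ρ t) :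
    Nat.card R ≤ 2 * (finrank K V) ^ 2 := by
  classical
  have ht1 : t ≠ 1 := by
    intro h3
    have h4 := h.neg
    rw [h3, map_one] at h4
    have h5 : (2 : K) • (1 : Module.End K V) = 0 := by
      rw [two_smul]
      nth_rewrite 1 [h4]
      exact neg_add_cancel 1
    exact one_ne_zero ((smul_eq_zero.1 h5).resolve_left h.two)
  have hot : orderOf t = 2 := orderOf_eq_prime (by rw [pow_two, h.tt]) ht1
  have : Fintype (R ⧸ Subgroup.zpowers t) := Fintype.ofFinite _
  have hli : LinearIndependent K (fun q : R ⧸ Subgroup.zpowers t => ρ (Quotient.out q)) := by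
    rw [Fintype.linearIndependent_iff]
    intro g hg q
    have hinj : Function.Injective (fun q : R ⧸ Subgroup.zpowers t => Quotient.out q) := fun a b hab => by
      have := congrArg (fun r : R => (QuotientGroup.mk r : R ⧸ Subgroup.zpowers t)) hab
      simpa using this
    let S : Finset R := Finset.univ.image (fun q : R ⧸ Subgroup.zpowers t => Quotient.out q)
    have h1 := h.linInd_aux S.card S le_rfl (by
      intro s hs s' hs' hne hst
      obtain ⟨a, -, rfl⟩ := Finset.mem_image.1 hs
      obtain ⟨b, -, rfl⟩ := Finset.mem_image.1 hs'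
      apply hne
      have h2 : (QuotientGroup.mk (Quotient.out a) : R ⧸ Subgroup.zpowers t) = QuotientGroup.mk (Quotient.out b) := by
        rw [QuotientGroup.eq, hst]
        exact Subgroup.mem_zpowers t
      have h3 : a = b := by simpa using h2
      rw [h3]) (fun r => g (QuotientGroup.mk r)) (by
      rw [Finset.sum_image (fun a _ b _ hab => hinj hab)]
      simpa using hg) (Quotient.out q) (Finset.mem_image_of_mem _ (Finset.mem_univ q))
    simpa using h1
  have h2 := hli.fintype_card_le_finrank (R := K)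
  have h2' : finrank K (Module.End K V) = finrank K V * finrank K V := Module.finrank_linearMap K K V V
  rw [h2'] at h2
  have h3 : Nat.card R = Nat.card (R ⧸ Subgroup.zpowers t) * Nat.card ↥(Subgroup.zpowers t) :=
    Subgroup.card_eq_card_quotient_mul_card_subgroup _
  rw [Nat.card_zpowers, hot] at h3
  rw [h3, pow_two]
  have h4 : Nat.card (R ⧸ Subgroup.zpowers t) ≤ finrank K V * finrank K V := by
    simpa [Nat.card_eq_fintype_card] using h2
  omega

end Cfsg.Agent.H243.LinInd
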