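import Mathlib
import Cfsg.Prelude.Def_Local
import Cfsg.Prelude.Def_Transfer
import Cfsg.Agent.Lib.GenFitting
import Cfsg.Agent.Lib.Cores
import Cfsg.Agent.Lib.FrattiniBasic
import Cfsg.Agent.H243.LinInd

/-!
# `M` with `F*(M) = Q` extraspecial of order `3^9`, `F*(M/Q) = O₂(M/Q)` extraspecial of order `2^7` (helper243)

* `Hyp Q` : the hypotheses;
* `Rep` : the action of `M` on `V = Q / Z(Q)`, a space of dimension 8 over `F₃`;
* `Hyp.exists_rep`, `Rep.ker_iff` : the kernel is `Q`;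
* `Rep.irr` : `V` is irreducible under `O₂(M/Q)`.
-/

set_option autoImplicit false

namespace Cfsg.Agent.H243

open Subgroup Cfsg Module
open scoped commutatorElement

universe u

/-- The hypotheses. -/
structure Hyp {M : Type u} [Group M] (Q : Subgroup M) [Q.Normal] : Prop where
  extra : IsExtraspecial 3 ↥Q
  card : Nat.card ↥Q = 3 ^ 9
  exp : ∀ x ∈ Q, x ^ 3 = 1
  fstar : generalizedFittingSubgroup M = Q
  cenZ : ∀ x : ↥Q, x ∈ center ↥Q → ∀ m : M, m * x = x * m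
  fR : generalizedFittingSubgroup (M ⧸ Q) = pCore 2 (M ⧸ Q)
  extR : IsExtraspecial 2 ↥(pCore 2 (M ⧸ Q))
  cardR : Nat.card ↥(pCore 2 (M ⧸ Q)) = 2 ^ 7

/-- conjugation on `Q` -/
def cj {M : Type u} [Group M] (Q : Subgroup M) [hQ : Q.Normal] (m : M) (x : ↥Q) : ↥Q :=
  ⟨m * x * m⁻¹, hQ.conj_mem x x.2 m⟩

/-- The action on `V = Q / Z(Q)`. -/
structure Rep {M : Type u} [Group M] (Q : Subgroup M) [Q.Normal] (V : Type u) [AddCommGroup V] [Module (ZMod 3) V] where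
  ρ : M →* Module.End (ZMod 3) V
  π : ↥Q →* Multiplicative V
  surj : Function.Surjective π
  ker : ∀ x, π x = 1 ↔ x ∈ center ↥Q
  act : ∀ m x, ρ m (π x).toAdd = (π (cj Q m x)).toAdd

section

variable {M : Type u} [Group M] {Q : Subgroup M} [Q.Normal]

theorem cj_mul (m : M) (x y : ↥Q) : cj Q m (x * y) = cj Q m x * cj Q m y := by
  apply Subtype.ext
  simp [cj]

theorem cj_cj (m n : M) (x : ↥Q) : cj Q (m * n) x = cj Q m (cj Q n x) := by
  apply Subtype.ext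
  simp [cj, mul_assoc]

theorem cj_one (x : ↥Q) : cj Q (1 : M) x = x := by
  apply Subtype.ext
  simp [cj]

theorem cj_mem_center {m : M} {x : ↥Q} (hx : x ∈ center ↥Q) : cj Q m x ∈ center ↥Q := by
  rw [mem_center_iff] at hx ⊢
  intro y
  have h1 := hx (cj Q m⁻¹ y)
  have h2 := congrArg (cj Q m) h1
  rw [cj_mul, cj_mul, ← cj_cj, mul_inv_cancel, cj_one] at h2
  exact h2

theorem exists_rep_aux (hc : ∀ x y : ↥Q, x⁻¹ * y⁻¹ * x * y ∈ center ↥Q) (h3 : ∀ x : ↥Q, x ^ 3 ∈ center ↥Q) :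
    ∃ (V : Type u) (_ : AddCommGroup V) (_ : Module (ZMod 3) V), Nonempty (Rep Q V) := by
  let W := ↥Q ⧸ center ↥Q
  let cW : CommGroup W :=
    { (inferInstance : Group W) with
      mul_comm := by
        intro a b
        obtain ⟨x, rfl⟩ := QuotientGroup.mk_surjective a
        obtain ⟨y, rfl⟩ := QuotientGroup.mk_surjective b
        rw [← QuotientGroup.mk_mul, ← QuotientGroup.mk_mul, QuotientGroup.eq]
        have h := hc y x
        have e : (x * y)⁻¹ * (y * x) = y⁻¹ * x⁻¹ * y * x := by group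
        rw [e]
        exact h }
  let aV : AddCommGroup (Additive W) := Additive.addCommGroup
  have h3' : ∀ v : Additive W, 3 • v = 0 := by
    intro v
    obtain ⟨x, hx⟩ := QuotientGroup.mk_surjective (Additive.toMul v)
    have h1 : (Additive.toMul v) ^ 3 = 1 := by
      rw [← hx, ← QuotientGroup.mk_pow, QuotientGroup.eq_one_iff]
      exact h3 x
    exact h1
  let mV : Module (ZMod 3) (Additive W) := AddCommGroup.zmodModule h3'
  refine ⟨Additive W, aV, mV, ⟨?_⟩⟩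
  -- the automorphism of `W`
  have hres : ∀ m : M, ∀ x ∈ center ↥Q, cj Q m x ∈ center ↥Q := fun m x hx => cj_mem_center hx
  let φ : M → (W →* W) := fun m => QuotientGroup.map (center ↥Q) (center ↥Q)
    { toFun := cj Q m, map_one' := by apply Subtype.ext; simp [cj], map_mul' := cj_mul m } (fun x hx => hres m x hx)
  have hφ : ∀ m x, φ m (QuotientGroup.mk x) = QuotientGroup.mk (cj Q m x) := fun m x => rfl
  let ρ0 : M → Module.End (ZMod 3) (Additive W) := fun m => AddMonoidHom.toZModLinearMap 3 (MonoidHom.toAdditive (φ m))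
  refine { ρ := { toFun := ρ0, map_one' := ?_, map_mul' := ?_ }
           π := ?_
           surj := ?_
           ker := ?_
           act := ?_ }
  · apply LinearMap.ext
    intro v
    obtain ⟨x, hx⟩ := QuotientGroup.mk_surjective (Additive.toMul v)
    change Additive.ofMul (φ 1 (Additive.toMul v)) = v
    rw [← hx, hφ, cj_one, hx]
    rfl
  · intro m n
    apply LinearMap.ext
    intro v
    obtain ⟨x, hx⟩ := QuotientGroup.mk_surjective (Additive.toMul v)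
    change Additive.ofMul (φ (m * n) (Additive.toMul v)) = Additive.ofMul (φ m (φ n (Additive.toMul v)))
    rw [← hx, hφ, hφ, hφ, cj_cj]
  · exact (MulEquiv.toMonoidHom (MulEquiv.multiplicativeAdditive W).symm).comp (QuotientGroup.mk' (center ↥Q))
  · intro v
    obtain ⟨x, hx⟩ := QuotientGroup.mk_surjective ((MulEquiv.multiplicativeAdditive W) v)
    refine ⟨x, ?_⟩
    change (MulEquiv.multiplicativeAdditive W).symm (QuotientGroup.mk x) = v
    rw [hx, MulEquiv.symm_apply_apply]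
  · intro x
    change (MulEquiv.multiplicativeAdditive W).symm (QuotientGroup.mk x) = 1 ↔ _
    rw [MulEquiv.map_eq_one_iff, QuotientGroup.eq_one_iff]
  · intro m x
    rfl

theorem commutator_mem_center {X : Type u} [Group X] {p : ℕ} (h : IsExtraspecial p X) (x y : X) :
    x⁻¹ * y⁻¹ * x * y ∈ center X := by
  have h1 : commutator X = center X := h.1.2.2
  rw [← h1]
  have h2 := Subgroup.commutator_mem_commutator (mem_top x⁻¹) (mem_top y⁻¹)
  rw [commutator_def]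
  have e : x⁻¹ * y⁻¹ * x * y = ⁅x⁻¹, y⁻¹⁆ := by rw [commutatorElement_def, inv_inv, inv_inv]
  rw [e]
  exact h2

theorem Hyp.exists_rep (h : Hyp Q) : ∃ (V : Type u) (_ : AddCommGroup V) (_ : Module (ZMod 3) V), Nonempty (Rep Q V) := by
  refine exists_rep_aux (commutator_mem_center h.extra) fun x => ?_
  have h1 : x ^ 3 = 1 := Subtype.ext (by simpa using h.exp x x.2)
  rw [h1]
  exact one_mem _

theorem Hyp.card_center (h : Hyp Q) : Nat.card ↥(center ↥Q) = 3 := h.extra.2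

theorem Hyp.cent_le [Finite M] (h : Hyp Q) : centralizer (Q : Set M) ≤ Q := by
  have h1 := Cfsg.Agent.Lib.GenFitting.centralizer_genFitting_le (G := M)
  rw [h.fstar] at h1
  exact h1

theorem Hyp.isPGroup (h : Hyp Q) : IsPGroup 3 ↥Q := h.extra.1.1

/-- normal 3-subgroups of `M` lie in `Q` -/
theorem Hyp.le_of_isPGroup [Finite M] (h : Hyp Q) {N : Subgroup M} (hN : N.Normal) (hp : IsPGroup 3 ↥N) : N ≤ Q := by
  have : Fact (Nat.Prime 3) := ⟨Nat.prime_three⟩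
  have h1 := Cfsg.Agent.Lib.Cores.le_fittingSubgroup hN hp.isNilpotent
  have h2 := Cfsg.Agent.Lib.GenFitting.fitting_le_genFitting (G := M)
  rw [h.fstar] at h2
  exact h1.trans h2

/-- normal nilpotent subgroups of `M` lie in `Q` -/
theorem Hyp.le_of_isNilpotent [Finite M] (h : Hyp Q) {N : Subgroup M} (hN : N.Normal) (hp : Group.IsNilpotent ↥N) :
    N ≤ Q := by
  have h1 := Cfsg.Agent.Lib.Cores.le_fittingSubgroup hN hp
  have h2 := Cfsg.Agent.Lib.GenFitting.fitting_le_genFitting (G := M)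
  rw [h.fstar] at h2
  exact h1.trans h2

end

section

variable {M : Type u} [Group M] {Q : Subgroup M} [Q.Normal] {V : Type u} [AddCommGroup V] [Module (ZMod 3) V]

theorem Rep.π_eq_iff (r : Rep Q V) (x y : ↥Q) : r.π x = r.π y ↔ x⁻¹ * y ∈ center ↥Q := by
  rw [← r.ker, map_mul, map_inv, inv_mul_eq_one]

/-- trivial action on `V` -/
theorem Rep.ρ_eq_one_iff (r : Rep Q V) (m : M) : r.ρ m = 1 ↔ ∀ x : ↥Q, x⁻¹ * cj Q m x ∈ center ↥Q := by
  constructor
  · intro hm x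
    rw [← r.π_eq_iff]
    have := r.act m x
    rw [hm] at this
    exact Multiplicative.toAdd.injective this
  · intro hm
    apply LinearMap.ext
    intro v
    obtain ⟨x, hx⟩ := r.surj (Multiplicative.ofAdd v)
    have h1 : v = (r.π x).toAdd := by rw [hx]; rfl
    rw [h1, r.act, ← (r.π_eq_iff _ _).2 (hm x)]
    rfl

theorem Rep.ρ_of_mem (h : Hyp Q) (r : Rep Q V) {m : M} (hm : m ∈ Q) : r.ρ m = 1 := by
  rw [r.ρ_eq_one_iff]
  intro x
  have e : x⁻¹ * cj Q m x = x⁻¹ * (⟨m, hm⟩⁻¹ : ↥Q)⁻¹ * x * (⟨m, hm⟩⁻¹ : ↥Q) := by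
    apply Subtype.ext
    simp [cj, mul_assoc]
  rw [e]
  exact commutator_mem_center h.extra _ _

/-- an element of order prime to 3 acting trivially on `V` is trivial -/
theorem Rep.eq_one_of_ρ [Finite M] (h : Hyp Q) (r : Rep Q V) {m : M} (hm : r.ρ m = 1) (hc : (orderOf m).Coprime 3) :
    m = 1 := by
  have h1 := (r.ρ_eq_one_iff m).1 hm
  -- `m` centralizes `Q`
  have h2 : ∀ (n : ℕ) (x : ↥Q), cj Q (m ^ n) x = x * (x⁻¹ * cj Q m x) ^ n := by
    intro n x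
    induction n with
    | zero => rw [pow_zero, pow_zero, cj_one, mul_one]
    | succ n ih =>
      have hz : ∀ z ∈ center ↥Q, cj Q m z = z := by
        intro z hz
        apply Subtype.ext
        have := h.cenZ z hz m
        simp only [cj]
        rw [this, mul_inv_cancel_right]
      rw [pow_succ', cj_cj, ih, cj_mul, hz _ (pow_mem (h1 x) n), pow_succ', ← mul_assoc, mul_inv_cancel_left]
  have h3 : m ∈ centralizer (Q : Set M) := by
    rw [mem_centralizer_iff]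
    intro x hx
    have h4 := h2 (orderOf m) ⟨x, hx⟩
    rw [pow_orderOf_eq_one, cj_one] at h4
    have h5 : ((⟨x, hx⟩ : ↥Q)⁻¹ * cj Q m ⟨x, hx⟩) ^ orderOf m = 1 := (mul_eq_left.1 h4.symm)
    have h6 : ((⟨x, hx⟩ : ↥Q)⁻¹ * cj Q m ⟨x, hx⟩) ^ 3 = 1 :=
      Subtype.ext (by simpa using h.exp _ ((⟨x, hx⟩ : ↥Q)⁻¹ * cj Q m ⟨x, hx⟩).2)
    have h7 : (⟨x, hx⟩ : ↥Q)⁻¹ * cj Q m ⟨x, hx⟩ = 1 := by
      have h8 := pow_gcd_eq_one.2 ⟨h5, h6⟩
      rw [hc.gcd_eq_one, pow_one] at h8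
      exact h8
    have h8 := congrArg Subtype.val (inv_mul_eq_one.1 h7)
    simp only [cj] at h8
    calc x * m = (m * x * m⁻¹) * m := by rw [← h8]
      _ = m * x := by group
  have h4 := h.cent_le h3
  have h5 : m ^ 3 = 1 := h.exp m h4
  have h6 := pow_gcd_eq_one.2 ⟨h5, pow_orderOf_eq_one m⟩
  rw [hc.symm.gcd_eq_one, pow_one] at h6
  exact h6

/-- **The kernel of the action is `Q`.** -/
theorem Rep.ker_iff [Finite M] (h : Hyp Q) (r : Rep Q V) (m : M) : r.ρ m = 1 ↔ m ∈ Q := by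
  refine ⟨fun hm => ?_, r.ρ_of_mem h⟩
  have : Fact (Nat.Prime 3) := ⟨Nat.prime_three⟩
  let N : Subgroup M :=
    { carrier := {m | r.ρ m = 1}
      mul_mem' := by
        intro a b ha hb
        simp only [Set.mem_ofPred_eq] at ha hb ⊢
        rw [map_mul, ha, hb, mul_one]
      one_mem' := map_one _
      inv_mem' := by
        intro a ha
        simp only [Set.mem_ofPred_eq] at ha ⊢
        have h1 : r.ρ a * r.ρ a⁻¹ = 1 := by rw [← map_mul, mul_inv_cancel, map_one]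
        rw [ha, one_mul] at h1
        exact h1 }
  have hN : N.Normal := ⟨by
    intro a ha g
    change r.ρ (g * a * g⁻¹) = 1
    have h1 : r.ρ a = 1 := ha
    rw [map_mul, map_mul, h1, mul_one, ← map_mul, mul_inv_cancel, map_one]⟩
  have hp : IsPGroup 3 ↥N := by
    intro x
    obtain ⟨k, j, hj, hkj⟩ := Nat.exists_eq_pow_mul_and_not_dvd (orderOf_pos (x : M)).ne' 3 (by norm_num)
    refine ⟨k, Subtype.ext ?_⟩
    have h1 : ((x : M) ^ 3 ^ k) ^ j = 1 := by rw [← pow_mul, ← hkj, pow_orderOf_eq_one]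
    refine r.eq_one_of_ρ h (m := (x : M) ^ 3 ^ k) ?_ ?_
    · have h2 : r.ρ (x : M) = 1 := x.2
      rw [map_pow, h2, one_pow]
    · exact Nat.Coprime.coprime_dvd_left (orderOf_dvd_of_pow_eq_one h1)
        ((Nat.Prime.coprime_iff_not_dvd Nat.prime_three).2 hj).symm
  exact h.le_of_isPGroup hN hp hm

theorem Rep.finite_V [Finite M] (r : Rep Q V) : Finite V :=
  Finite.of_surjective (fun x : ↥Q => (r.π x).toAdd) (fun v => r.surj (Multiplicative.ofAdd v))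

theorem Rep.card_V [Finite M] (h : Hyp Q) (r : Rep Q V) : Nat.card V = 3 ^ 8 := by
  have hk : r.π.ker = center ↥Q := by
    ext x
    rw [MonoidHom.mem_ker, r.ker]
  have h1 : Nat.card (↥Q ⧸ r.π.ker) = Nat.card (Multiplicative V) :=
    Nat.card_congr (QuotientGroup.quotientKerEquivOfSurjective r.π r.surj).toEquiv
  have h2 : Nat.card (Multiplicative V) = Nat.card V := Nat.card_congr Multiplicative.toAdd
  have h3 : Nat.card ↥Q = Nat.card (↥Q ⧸ r.π.ker) * Nat.card ↥r.π.ker :=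
    Subgroup.card_eq_card_quotient_mul_card_subgroup _
  rw [h1, h2, hk, h.card_center, h.card] at h3
  omega

theorem Rep.finrank_V [Finite M] (h : Hyp Q) (r : Rep Q V) : finrank (ZMod 3) V = 8 := by
  have := r.finite_V
  have : Fact (Nat.Prime 3) := ⟨Nat.prime_three⟩
  have h1 := Module.natCard_eq_pow_finrank (K := ZMod 3) (V := V)
  rw [r.card_V h, Nat.card_zmod] at h1
  exact (Nat.pow_right_injective (le_refl 2 |>.trans (by norm_num)) h1).symm

/-- the action of `M / Q` -/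
noncomputable def Rep.ρY (h : Hyp Q) (r : Rep Q V) : M ⧸ Q →* Module.End (ZMod 3) V :=
  QuotientGroup.lift Q r.ρ fun _ hm => r.ρ_of_mem h hm

theorem Rep.ρY_mk (h : Hyp Q) (r : Rep Q V) (m : M) : r.ρY h (QuotientGroup.mk m) = r.ρ m := rfl

theorem Rep.ρY_eq_one_iff [Finite M] (h : Hyp Q) (r : Rep Q V) (y : M ⧸ Q) : r.ρY h y = 1 ↔ y = 1 := by
  obtain ⟨m, rfl⟩ := QuotientGroup.mk_surjective y
  rw [r.ρY_mk, r.ker_iff h, QuotientGroup.eq_one_iff]

theorem Rep.ρY_inj [Finite M] (h : Hyp Q) (r : Rep Q V) {x y : M ⧸ Q} (hxy : r.ρY h x = r.ρY h y) : x = y := by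
  have h1 : r.ρY h (x⁻¹ * y) = 1 := by
    rw [map_mul, ← hxy, ← map_mul, inv_mul_cancel, map_one]
  exact inv_mul_eq_one.1 ((r.ρY_eq_one_iff h _).1 h1)

/-- `t` is the central involution of `R = O₂(M/Q)`. -/
structure IsT (Q : Subgroup M) [Q.Normal] (t : M ⧸ Q) : Prop where
  mem : t ∈ pCore 2 (M ⧸ Q)
  ne : t ≠ 1
  sq : t * t = 1
  center : ∀ x ∈ pCore 2 (M ⧸ Q), (∀ y ∈ pCore 2 (M ⧸ Q), x * y = y * x) → x = 1 ∨ x = t
  comm : ∀ y : M ⧸ Q, y * t = t * y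
  cc : ∀ x ∈ pCore 2 (M ⧸ Q), ∀ y ∈ pCore 2 (M ⧸ Q), x * y = y * x ∨ x * y = t * (y * x)
  sq' : ∀ x ∈ pCore 2 (M ⧸ Q), x * x = 1 ∨ x * x = t

theorem Hyp.exists_t [Finite M] (h : Hyp Q) : ∃ t : M ⧸ Q, IsT Q t := by
  have hn : (pCore 2 (M ⧸ Q)).Normal := Cfsg.Agent.Lib.Cores.pCore_normal 2
  obtain ⟨a, b, hab, huniv⟩ := Nat.card_eq_two_iff.1 h.extR.2
  obtain ⟨t, ht1, htu⟩ : ∃ t : ↥(Subgroup.center ↥(pCore 2 (M ⧸ Q))), t ≠ 1 ∧ ∀ x, x = 1 ∨ x = t := by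
    have hx : ∀ x : ↥(Subgroup.center ↥(pCore 2 (M ⧸ Q))), x = a ∨ x = b := by
      intro x
      have : x ∈ ({a, b} : Set _) := by rw [huniv]; trivial
      simpa using this
    rcases hx 1 with h1 | h1
    · exact ⟨b, fun h2 => hab (h1.symm.trans h2.symm), fun x => by rw [h1]; exact hx x⟩
    · exact ⟨a, fun h2 => hab (h2.trans h1), fun x => by rw [h1]; exact (hx x).symm⟩
  have htt : t * t = 1 := by
    rcases htu (t * t) with h1 | h1
    · exact h1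
    · exact absurd (mul_eq_left.1 h1) ht1
  have hcen : ∀ x ∈ pCore 2 (M ⧸ Q), (∀ y ∈ pCore 2 (M ⧸ Q), x * y = y * x) → x = 1 ∨ x = ((t : ↥(pCore 2 (M ⧸ Q))) : M ⧸ Q) := by
    intro x hx hc
    have h1 : (⟨x, hx⟩ : ↥(pCore 2 (M ⧸ Q))) ∈ Subgroup.center ↥(pCore 2 (M ⧸ Q)) := by
      rw [mem_center_iff]
      intro y
      exact Subtype.ext (hc y y.2).symm
    rcases htu ⟨_, h1⟩ with h2 | h2
    · exact Or.inl (congrArg (fun z : ↥(Subgroup.center ↥(pCore 2 (M ⧸ Q))) => ((z : ↥(pCore 2 (M ⧸ Q))) : M ⧸ Q)) h2)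
    · exact Or.inr (congrArg (fun z : ↥(Subgroup.center ↥(pCore 2 (M ⧸ Q))) => ((z : ↥(pCore 2 (M ⧸ Q))) : M ⧸ Q)) h2)
  have htc : ∀ y ∈ pCore 2 (M ⧸ Q), ((t : ↥(pCore 2 (M ⧸ Q))) : M ⧸ Q) * y = y * ((t : ↥(pCore 2 (M ⧸ Q))) : M ⧸ Q) := by
    intro y hy
    have h1 := mem_center_iff.1 t.2 ⟨y, hy⟩
    exact (congrArg Subtype.val h1).symm
  have hne : ((t : ↥(pCore 2 (M ⧸ Q))) : M ⧸ Q) ≠ 1 := fun h1 => ht1 (Subtype.ext (Subtype.ext h1))
  refine ⟨((t : ↥(pCore 2 (M ⧸ Q))) : M ⧸ Q), (t : ↥(pCore 2 (M ⧸ Q))).2, hne, ?_, hcen, ?_, ?_, ?_⟩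
  · exact congrArg (fun z : ↥(Subgroup.center ↥(pCore 2 (M ⧸ Q))) => ((z : ↥(pCore 2 (M ⧸ Q))) : M ⧸ Q)) htt
  · intro y
    have h1 : y * ((t : ↥(pCore 2 (M ⧸ Q))) : M ⧸ Q) * y⁻¹ = ((t : ↥(pCore 2 (M ⧸ Q))) : M ⧸ Q) := by
      have h2 := hcen (y * ((t : ↥(pCore 2 (M ⧸ Q))) : M ⧸ Q) * y⁻¹) (hn.conj_mem _ (t : ↥(pCore 2 (M ⧸ Q))).2 y) (by
        intro w hw
        have h3 : y⁻¹ * w * y ∈ pCore 2 (M ⧸ Q) := by simpa using hn.conj_mem w hw y⁻¹
        have h4 := htc _ h3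
        calc y * ((t : ↥(pCore 2 (M ⧸ Q))) : M ⧸ Q) * y⁻¹ * w
            = y * (((t : ↥(pCore 2 (M ⧸ Q))) : M ⧸ Q) * (y⁻¹ * w * y)) * y⁻¹ := by group
          _ = y * ((y⁻¹ * w * y) * ((t : ↥(pCore 2 (M ⧸ Q))) : M ⧸ Q)) * y⁻¹ := by rw [h4]
          _ = w * (y * ((t : ↥(pCore 2 (M ⧸ Q))) : M ⧸ Q) * y⁻¹) := by group)
      refine h2.resolve_left fun h3 => hne ?_
      exact conj_eq_one_iff.1 h3
    calc y * ((t : ↥(pCore 2 (M ⧸ Q))) : M ⧸ Q) = (y * ((t : ↥(pCore 2 (M ⧸ Q))) : M ⧸ Q) * y⁻¹) * y := by group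
      _ = ((t : ↥(pCore 2 (M ⧸ Q))) : M ⧸ Q) * y := by rw [h1]
  · intro x hx y hy
    have h1 := commutator_mem_center h.extR (⟨x, hx⟩⁻¹ : ↥(pCore 2 (M ⧸ Q))) (⟨y, hy⟩⁻¹)
    rcases htu ⟨_, h1⟩ with h2 | h2
    · left
      have h3 := congrArg (fun z : ↥(Subgroup.center ↥(pCore 2 (M ⧸ Q))) => ((z : ↥(pCore 2 (M ⧸ Q))) : M ⧸ Q)) h2
      simp only [coe_mul, coe_inv, inv_inv, coe_one] at h3
      calc x * y = (x * y * x⁻¹ * y⁻¹) * (y * x) := by group
        _ = y * x := by rw [h3, one_mul]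
    · right
      have h3 := congrArg (fun z : ↥(Subgroup.center ↥(pCore 2 (M ⧸ Q))) => ((z : ↥(pCore 2 (M ⧸ Q))) : M ⧸ Q)) h2
      simp only [coe_mul, coe_inv, inv_inv] at h3
      calc x * y = (x * y * x⁻¹ * y⁻¹) * (y * x) := by group
        _ = _ := by rw [h3]
  · intro x hx
    -- `x²` is in the Frattini subgroup
    have h1 : (⟨x, hx⟩ : ↥(pCore 2 (M ⧸ Q))) * ⟨x, hx⟩ ∈ Subgroup.center ↥(pCore 2 (M ⧸ Q)) := by
      have : Fact (Nat.Prime 2) := ⟨Nat.prime_two⟩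
      rw [← h.extR.1.2.1, ← pow_two]
      exact Cfsg.Agent.Lib.FrattiniBasic.pow_mem_frattini h.extR.1.1 _
    rcases htu ⟨_, h1⟩ with h2 | h2
    · exact Or.inl (congrArg (fun z : ↥(Subgroup.center ↥(pCore 2 (M ⧸ Q))) => ((z : ↥(pCore 2 (M ⧸ Q))) : M ⧸ Q)) h2)
    · exact Or.inr (congrArg (fun z : ↥(Subgroup.center ↥(pCore 2 (M ⧸ Q))) => ((z : ↥(pCore 2 (M ⧸ Q))) : M ⧸ Q)) h2)

end

end Cfsg.Agent.H243
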