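import Mathlib
import Cfsg.Agent.H243.Rep
import Cfsg.Agent.H261.Reduction

/-!
# `V = Q / Z(Q)` is irreducible (helper243)
-/

set_option autoImplicit false

namespace Cfsg.Agent.H243

open Subgroup Cfsg Module
open scoped commutatorElement

universe u

variable {M : Type u} [Group M] {Q : Subgroup M} [Q.Normal] {V : Type u} [AddCommGroup V] [Module (ZMod 3) V]

theorem two_ne : (2 : ZMod 3) ≠ 0 := by decide

theorem IsT.nd {t : M ⧸ Q} (ht : IsT Q t) {x : M ⧸ Q} (hx : x ∈ pCore 2 (M ⧸ Q)) (h1 : x ≠ 1) (h2 : x ≠ t) :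
    ∃ y ∈ pCore 2 (M ⧸ Q), x * y = t * (y * x) := by
  by_contra hcon
  push Not at hcon
  rcases ht.center x hx (fun y hy => (ht.cc x hx y hy).resolve_right (hcon y hy)) with h3 | h3
  · exact h1 h3
  · exact h2 h3

/-- restriction to an invariant submodule -/
noncomputable def resR (h : Hyp Q) (r : Rep Q V) (W : Submodule (ZMod 3) V)
    (hW : ∀ y ∈ pCore 2 (M ⧸ Q), ∀ w ∈ W, r.ρY h y w ∈ W) : ↥(pCore 2 (M ⧸ Q)) →* Module.End (ZMod 3) ↥W where
  toFun y := (r.ρY h y).restrict (hW y y.2)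
  map_one' := by
    apply LinearMap.ext
    intro w
    apply Subtype.ext
    rw [LinearMap.coe_restrict_apply]
    simp
  map_mul' := by
    intro a b
    apply LinearMap.ext
    intro w
    apply Subtype.ext
    rw [LinearMap.coe_restrict_apply]
    simp [map_mul]

/-- a nonzero `R`-invariant submodule on which `t` acts as `-1` is everything -/
theorem Rep.eq_top_of_neg [Finite M] (h : Hyp Q) (r : Rep Q V) {t : M ⧸ Q} (ht : IsT Q t) (W : Submodule (ZMod 3) V)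
    (hW : ∀ y ∈ pCore 2 (M ⧸ Q), ∀ w ∈ W, r.ρY h y w ∈ W) (hne : W ≠ ⊥) (hneg : ∀ w ∈ W, r.ρY h t w = -w) : W = ⊤ := by
  have := r.finite_V
  have : Fact (Nat.Prime 3) := ⟨Nat.prime_three⟩
  have hnt : Nontrivial ↥W := (Submodule.nontrivial_iff_ne_bot).2 hne
  have hL : LinInd.Hyp (resR h r W hW) (⟨t, ht.mem⟩ : ↥(pCore 2 (M ⧸ Q))) := by
    refine ⟨two_ne, ?_, ?_, ?_, ?_, ?_⟩
    · apply LinearMap.ext
      intro w
      apply Subtype.ext
      have := hneg w w.2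
      simpa [resR, LinearMap.coe_restrict_apply] using this
    · exact Subtype.ext ht.sq
    · intro x
      exact Subtype.ext (ht.comm x)
    · intro x y
      rcases ht.cc x x.2 y y.2 with h1 | h1
      · exact Or.inl (Subtype.ext h1)
      · exact Or.inr (Subtype.ext h1)
    · intro x h1 h2
      obtain ⟨y, hy, hxy⟩ := ht.nd x.2 (fun h3 => h1 (Subtype.ext h3)) (fun h3 => h2 (Subtype.ext h3))
      exact ⟨⟨y, hy⟩, Subtype.ext hxy⟩
  have h1 := hL.card_le
  rw [h.cardR] at h1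
  have h2 : finrank (ZMod 3) ↥W ≤ finrank (ZMod 3) V := Submodule.finrank_le W
  rw [r.finrank_V h] at h2
  have h3 : 8 ≤ finrank (ZMod 3) ↥W := by
    by_contra hcon
    push Not at hcon
    have h4 : finrank (ZMod 3) ↥W ≤ 7 := by omega
    have h5 := Nat.pow_le_pow_left h4 2
    omega
  exact Submodule.eq_top_of_finrank_eq (by rw [r.finrank_V h]; omega)

/-- **The central involution of `R` acts as `-1`.** -/
theorem Rep.neg_one [Finite M] (h : Hyp Q) (r : Rep Q V) {t : M ⧸ Q} (ht : IsT Q t) (v : V) : r.ρY h t v = -v := by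
  -- the (-1)-eigenspace
  have h3 : ∀ v : V, (3 : ℕ) • v = 0 := by
    intro v
    have h1 : ((3 : ℕ) : ZMod 3) • v = 0 := by
      rw [show ((3 : ℕ) : ZMod 3) = 0 from by decide, zero_smul]
    rw [Nat.cast_smul_eq_nsmul] at h1
    exact h1
  have hsq : ∀ v : V, r.ρY h t (r.ρY h t v) = v := by
    intro v
    have h1 : r.ρY h t * r.ρY h t = 1 := by rw [← map_mul, ht.sq, map_one]
    exact congrArg (fun f : Module.End (ZMod 3) V => f v) h1
  let W : Submodule (ZMod 3) V := LinearMap.ker (r.ρY h t + 1)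
  have hWm : ∀ w, w ∈ W ↔ r.ρY h t w = -w := by
    intro w
    rw [LinearMap.mem_ker, LinearMap.add_apply, Module.End.one_apply, add_eq_zero_iff_eq_neg]
  have hW : ∀ y ∈ pCore 2 (M ⧸ Q), ∀ w ∈ W, r.ρY h y w ∈ W := by
    intro y _ w hw
    rw [hWm] at hw ⊢
    have h1 : r.ρY h t * r.ρY h y = r.ρY h y * r.ρY h t := by rw [← map_mul, ← map_mul, ht.comm y]
    have h2 := congrArg (fun f : Module.End (ZMod 3) V => f w) h1
    simp only [Module.End.mul_apply] at h2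
    rw [h2, hw, map_neg]
  have hne : W ≠ ⊥ := by
    intro hbot
    apply ht.ne
    rw [← r.ρY_eq_one_iff h]
    apply LinearMap.ext
    intro v
    have h4 : r.ρY h t v - v ∈ W := by
      rw [hWm, map_sub, hsq]
      abel
    rw [hbot, Submodule.mem_bot, sub_eq_zero] at h4
    exact h4
  have htop := r.eq_top_of_neg h ht W hW hne (fun w hw => (hWm w).1 hw)
  exact (hWm v).1 (by rw [htop]; trivial)

/-- **Irreducibility.** -/
theorem Rep.irr [Finite M] (h : Hyp Q) (r : Rep Q V) (W : Submodule (ZMod 3) V)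
    (hW : ∀ y ∈ pCore 2 (M ⧸ Q), ∀ w ∈ W, r.ρY h y w ∈ W) : W = ⊥ ∨ W = ⊤ := by
  obtain ⟨t, ht⟩ := h.exists_t
  by_cases hne : W = ⊥
  · exact Or.inl hne
  · exact Or.inr (r.eq_top_of_neg h ht W hW hne fun w _ => r.neg_one h ht w)

/-- the image in `V` of a subgroup of `Q` -/
def Rep.img (r : Rep Q V) (A : Subgroup ↥Q) : Submodule (ZMod 3) V :=
  AddSubgroup.toZModSubmodule 3 ((A.map r.π).toAddSubgroup')

theorem Rep.mem_img (r : Rep Q V) (A : Subgroup ↥Q) (v : V) : v ∈ r.img A ↔ ∃ a ∈ A, (r.π a).toAdd = v := by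
  constructor
  · rintro ⟨a, ha, hv⟩
    exact ⟨a, ha, by rw [hv]; rfl⟩
  · rintro ⟨a, ha, hv⟩
    refine ⟨a, ha, ?_⟩
    rw [← hv]
    rfl

/-- A subgroup of `Q` invariant under `M` lies in the centre or covers `Q / Z(Q)`. -/
theorem Hyp.sub_dichotomy [Finite M] (h : Hyp Q) (A : Subgroup ↥Q) (hA : ∀ m : M, ∀ a ∈ A, cj Q m a ∈ A) :
    A ≤ center ↥Q ∨ ∀ x : ↥Q, ∃ a ∈ A, ∃ z ∈ center ↥Q, x = a * z := by
  obtain ⟨V, _, _, ⟨r⟩⟩ := h.exists_rep
  have hW : ∀ y ∈ pCore 2 (M ⧸ Q), ∀ w ∈ r.img A, r.ρY h y w ∈ r.img A := by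
    intro y _ w hw
    obtain ⟨m, rfl⟩ := QuotientGroup.mk_surjective y
    rw [r.mem_img] at hw ⊢
    obtain ⟨a, ha, rfl⟩ := hw
    exact ⟨cj Q m a, hA m a ha, by rw [r.ρY_mk, r.act]⟩
  rcases r.irr h (r.img A) hW with h1 | h1
  · left
    intro a ha
    rw [← r.ker]
    have h2 : (r.π a).toAdd ∈ r.img A := (r.mem_img A _).2 ⟨a, ha, rfl⟩
    rw [h1, Submodule.mem_bot] at h2
    exact Multiplicative.toAdd.injective h2
  · right
    intro x
    have h2 : (r.π x).toAdd ∈ r.img A := by rw [h1]; trivial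
    obtain ⟨a, ha, hax⟩ := (r.mem_img A _).1 h2
    have h3 := (r.π_eq_iff a x).1 (Multiplicative.toAdd.injective hax)
    exact ⟨a, ha, a⁻¹ * x, h3, by group⟩

theorem Hyp.exists_noncomm (h : Hyp Q) : ∃ x y : ↥Q, x * y ≠ y * x := by
  by_contra hcon
  push Not at hcon
  have h1 : center ↥Q = ⊤ := by
    rw [eq_top_iff]
    intro x _
    rw [mem_center_iff]
    intro y
    exact hcon y x
  have h2 := h.card_center
  rw [h1, Subgroup.card_top, h.card] at h2
  norm_num at h2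

/-- A normal abelian subgroup of `M` lies in `Z(Q)`. -/
theorem Hyp.abelian_le [Finite M] (h : Hyp Q) {A : Subgroup M} (hA : A.Normal) (hab : ∀ a ∈ A, ∀ b ∈ A, a * b = b * a) :
    ∀ a ∈ A, ∃ ha : a ∈ Q, (⟨a, ha⟩ : ↥Q) ∈ center ↥Q := by
  have hnil : Group.IsNilpotent ↥A := by
    let _ : CommGroup ↥A := { (inferInstance : Group ↥A) with mul_comm := fun a b => Subtype.ext (hab a a.2 b b.2) }
    exact CommGroup.isNilpotent
  have hAQ := h.le_of_isNilpotent hA hnil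
  have h1 := h.sub_dichotomy (A.subgroupOf Q) (by
    intro m a ha
    rw [mem_subgroupOf] at ha ⊢
    exact hA.conj_mem a ha m)
  rcases h1 with h1 | h1
  · intro a ha
    exact ⟨hAQ ha, h1 (mem_subgroupOf.2 ha)⟩
  · exfalso
    obtain ⟨x, y, hxy⟩ := h.exists_noncomm
    apply hxy
    obtain ⟨a, ha, z, hz, rfl⟩ := h1 x
    obtain ⟨b, hb, w, hw, rfl⟩ := h1 y
    have hab' : a * b = b * a := Subtype.ext (hab a ha b hb)
    have hz' := mem_center_iff.1 hz
    have hw' := mem_center_iff.1 hw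
    calc a * z * (b * w) = a * (z * b) * w := by group
      _ = a * (b * z) * w := by rw [hz' b]
      _ = (a * b) * (z * w) := by group
      _ = (b * a) * (w * z) := by rw [hab', hw' z]
      _ = b * (a * w) * z := by group
      _ = b * (w * a) * z := by rw [hw' a]
      _ = b * w * (a * z) := by group

/-- the centre of `Q` is the given subgroup of order 3 -/
theorem mk_hyp {G : Type u} [Group G] [Finite G] {Z : Subgroup G} (hZ : Nat.card ↥Z = 3)
    {Q : Subgroup ↥(centralizer (Z : Set G))} [Q.Normal]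
    (hF : generalizedFittingSubgroup ↥(centralizer (Z : Set G)) = Q)
    (hQ : IsExtraspecial 3 ↥Q) (hc : Nat.card ↥Q = 3 ^ 9) (he : ∀ x ∈ Q, x ^ 3 = 1)
    (hFR : generalizedFittingSubgroup (↥(centralizer (Z : Set G)) ⧸ Q) = pCore 2 (↥(centralizer (Z : Set G)) ⧸ Q))
    (hR : IsExtraspecial 2 ↥(pCore 2 (↥(centralizer (Z : Set G)) ⧸ Q)))
    (hRc : Nat.card ↥(pCore 2 (↥(centralizer (Z : Set G)) ⧸ Q)) = 2 ^ 7) :
    Hyp Q ∧ (∀ z ∈ Z, ∃ hz : z ∈ centralizer (Z : Set G), ∃ hq : (⟨z, hz⟩ : ↥(centralizer (Z : Set G))) ∈ Q,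
      (⟨_, hq⟩ : ↥Q) ∈ center ↥Q) ∧
      ∀ x : ↥Q, x ∈ center ↥Q → ((x : ↥(centralizer (Z : Set G))) : G) ∈ Z := by
  have : Fact (Nat.Prime 3) := ⟨Nat.prime_three⟩
  have hZab : ∀ a ∈ Z, ∀ b ∈ Z, a * b = b * a := by
    have : IsCyclic ↥Z := isCyclic_of_prime_card hZ
    have h1 := IsCyclic.isMulCommutative (α := ↥Z)
    intro a ha b hb
    exact congrArg Subtype.val (h1.is_comm.comm (⟨a, ha⟩ : ↥Z) ⟨b, hb⟩)
  have hZM : Z ≤ centralizer (Z : Set G) := by
    intro z hz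
    rw [mem_centralizer_iff]
    intro w hw
    exact hZab w hw z hz
  -- `Z` as a subgroup of `M`
  have hZc : ∀ z (hz : z ∈ Z) (m : ↥(centralizer (Z : Set G))), m * ⟨z, hZM hz⟩ = ⟨z, hZM hz⟩ * m := by
    intro z hz m
    exact Subtype.ext ((mem_centralizer_iff.1 m.2) z hz).symm
  let Z' : Subgroup ↥(centralizer (Z : Set G)) := Z.subgroupOf _
  have hZ'n : Z'.Normal := ⟨by
    intro z hz g
    rw [mem_subgroupOf] at hz
    have h1 := hZc z hz g
    have h2 : g * z * g⁻¹ = z := by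
      have : (⟨(z : G), hZM hz⟩ : ↥(centralizer (Z : Set G))) = z := Subtype.ext rfl
      rw [this] at h1
      rw [h1, mul_inv_cancel_right]
    rw [h2]
    exact hz⟩
  have hZ'card : Nat.card ↥Z' = 3 := by
    rw [← hZ]
    exact Nat.card_congr (Subgroup.subgroupOfEquivOfLe hZM).toEquiv
  have hZ'Q : Z' ≤ Q := by
    have h1 := Cfsg.Agent.Lib.Cores.le_fittingSubgroup hZ'n (IsPGroup.of_card (p := 3) (n := 1)
      (by rw [hZ'card, pow_one])).isNilpotent
    have h2 := Cfsg.Agent.Lib.GenFitting.fitting_le_genFitting (G := ↥(centralizer (Z : Set G)))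
    rw [hF] at h2
    exact h1.trans h2
  have hZQ : ∀ z (hz : z ∈ Z), (⟨z, hZM hz⟩ : ↥(centralizer (Z : Set G))) ∈ Q := fun z hz =>
    hZ'Q (mem_subgroupOf.2 hz)
  have hZcen : ∀ z (hz : z ∈ Z), (⟨_, hZQ z hz⟩ : ↥Q) ∈ center ↥Q := by
    intro z hz
    rw [mem_center_iff]
    intro y
    exact Subtype.ext (hZc z hz y)
  have hle : Z'.subgroupOf Q ≤ center ↥Q := by
    intro x hx
    rw [mem_subgroupOf] at hx
    have hx' : ((x : ↥(centralizer (Z : Set G))) : G) ∈ Z := hx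
    have := hZcen _ hx'
    exact this
  have heq : Z'.subgroupOf Q = center ↥Q := by
    refine Subgroup.eq_of_le_of_card_ge hle ?_
    rw [hQ.2, Nat.card_congr (Subgroup.subgroupOfEquivOfLe hZ'Q).toEquiv, hZ'card]
  have hin : ∀ x : ↥Q, x ∈ center ↥Q → ((x : ↥(centralizer (Z : Set G))) : G) ∈ Z := by
    intro x hx
    rw [← heq] at hx
    exact hx
  refine ⟨⟨hQ, hc, he, hF, ?_, hFR, hR, hRc⟩, fun z hz => ⟨hZM hz, hZQ z hz, hZcen z hz⟩, hin⟩
  intro x hx m
  exact hZc _ (hin x hx) m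

/-- **The local hypothesis of helper261's reduction.** -/
theorem mk_loc {G : Type u} [Group G] [Finite G] {Z : Subgroup G} (hZ : Nat.card ↥Z = 3)
    {Q : Subgroup ↥(centralizer (Z : Set G))} [Q.Normal] (h : Hyp Q)
    (hZQ : ∀ z ∈ Z, ∃ hz : z ∈ centralizer (Z : Set G), ∃ hq : (⟨z, hz⟩ : ↥(centralizer (Z : Set G))) ∈ Q,
      (⟨_, hq⟩ : ↥Q) ∈ center ↥Q)
    (hin : ∀ x : ↥Q, x ∈ center ↥Q → ((x : ↥(centralizer (Z : Set G))) : G) ∈ Z) :
    H261.Loc 3 Z (Q.map (centralizer (Z : Set G)).subtype) := by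
  have hmem : ∀ x, x ∈ Q.map (centralizer (Z : Set G)).subtype ↔ ∃ hx : x ∈ centralizer (Z : Set G), (⟨x, hx⟩ : ↥(centralizer (Z : Set G))) ∈ Q := by
    intro x
    constructor
    · rintro ⟨y, hy, rfl⟩
      exact ⟨y.2, hy⟩
    · rintro ⟨hx, hq⟩
      exact ⟨_, hq, rfl⟩
  refine ⟨hZ, ?_, ?_, ?_, ?_, ?_, ?_⟩
  · intro z hz
    obtain ⟨h1, h2, -⟩ := hZQ z hz
    exact (hmem z).2 ⟨h1, h2⟩
  · intro x hx
    exact ((hmem x).1 hx).1
  · exact h.isPGroup.map _
  · intro c hc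
    refine H261.mem_normalizer_of_conj ?_ ?_
    · intro y hy
      obtain ⟨h1, h2⟩ := (hmem y).1 hy
      exact (hmem _).2 ⟨mul_mem (mul_mem hc h1) (inv_mem hc), (inferInstance : Q.Normal).conj_mem _ h2 ⟨c, hc⟩⟩
    · intro y hy
      obtain ⟨h1, h2⟩ := (hmem y).1 hy
      refine (hmem _).2 ⟨mul_mem (mul_mem (inv_mem hc) h1) hc, ?_⟩
      have := (inferInstance : Q.Normal).conj_mem _ h2 ⟨c, hc⟩⁻¹
      rw [inv_inv] at this
      exact this
  · intro x hx
    rw [mem_centralizer_iff] at hx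
    have hxM : x ∈ centralizer (Z : Set G) := by
      rw [mem_centralizer_iff]
      intro z hz
      obtain ⟨h1, h2, -⟩ := hZQ z hz
      exact hx z ((hmem z).2 ⟨h1, h2⟩)
    refine (hmem x).2 ⟨hxM, h.cent_le ?_⟩
    rw [mem_centralizer_iff]
    intro y hy
    exact Subtype.ext (hx y ((hmem _).2 ⟨y.2, hy⟩))
  · intro A hA hn hab a ha
    have hN : (A.subgroupOf (centralizer (Z : Set G))).Normal := ⟨by
      intro x hx g
      rw [mem_subgroupOf] at hx ⊢
      exact (mem_normalizer_iff.1 (hn g.2) _).1 hx⟩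
    obtain ⟨h1, h2⟩ := h.abelian_le hN (fun a ha b hb => Subtype.ext (hab a ha b hb)) ⟨a, hA ha⟩ ha
    exact hin _ h2

end Cfsg.Agent.H243
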