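import Mathlib
import Cfsg.Agent.H243.Irr
import Cfsg.Agent.H243.QuadAlg
import Cfsg.Agent.Lib.ClassTwoDuality

/-!
# Quadratic elements and abelian 3-subgroups (helper243)
-/

set_option autoImplicit false

namespace Cfsg.Agent.H243

open Subgroup Cfsg Module
open scoped commutatorElement

universe u

variable {M : Type u} [Group M] {Q : Subgroup M} [Q.Normal] {V : Type u} [AddCommGroup V] [Module (ZMod 3) V]

theorem end_three (f : Module.End (ZMod 3) V) : (3 : Module.End (ZMod 3) V) * f = 0 := by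
  have h1 : (3 : ZMod 3) • f = 0 := by
    rw [show (3 : ZMod 3) = 0 from by decide, zero_smul]
  have h2 : (3 : Module.End (ZMod 3) V) * f = (3 : ℕ) • f := by
    rw [nsmul_eq_mul]; rfl
  rw [h2, ← Nat.cast_smul_eq_nsmul (ZMod 3)]
  exact h1

theorem end_three' : (3 : Module.End (ZMod 3) V) = 0 := by
  have := end_three (1 : Module.End (ZMod 3) V)
  rwa [mul_one] at this

theorem Rep.nontrivial [Finite M] (h : Hyp Q) (r : Rep Q V) : Nontrivial V := by
  have := r.finite_V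
  have h1 := r.card_V h
  exact Finite.one_lt_card_iff_nontrivial.1 (by rw [h1]; norm_num)

/-- **A quadratic element centralizes a subgroup of index at most 4 of `R`.** -/
theorem Rep.quad_cent [Finite M] (h : Hyp Q) (r : Rep Q V) {e : M ⧸ Q}
    (he : r.ρY h e * r.ρY h e = -r.ρY h e - 1) :
    e ^ 3 = 1 ∧ ((∀ x ∈ pCore 2 (M ⧸ Q), e * x = x * e) ∨
    ∃ y ∈ pCore 2 (M ⧸ Q), ∃ y' ∈ pCore 2 (M ⧸ Q), ∀ x ∈ pCore 2 (M ⧸ Q), x * y = y * x → x * y' = y' * x →
      e * x = x * e) := by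
  obtain ⟨t, ht⟩ := h.exists_t
  have hn : (pCore 2 (M ⧸ Q)).Normal := Cfsg.Agent.Lib.Cores.pCore_normal 2
  have hnt := r.nontrivial h
  have he3 : e ^ 3 = 1 := by
    rw [← r.ρY_eq_one_iff h, map_pow, pow_succ, pow_two, he, sub_mul, neg_mul, he]
    noncomm_ring
  refine ⟨he3, ?_⟩
  have hneg : r.ρY h t = -1 := LinearMap.ext fun v => r.neg_one h ht v
  -- notation: for `x ∈ R` put `y = e⁻¹ x⁻¹ e x`
  have hyR : ∀ x ∈ pCore 2 (M ⧸ Q), e⁻¹ * x⁻¹ * e * x ∈ pCore 2 (M ⧸ Q) := by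
    intro x hx
    have := hn.conj_mem _ (inv_mem hx) e⁻¹
    rw [inv_inv] at this
    exact mul_mem this hx
  have hcR : ∀ y ∈ pCore 2 (M ⧸ Q), e * y * e⁻¹ ∈ pCore 2 (M ⧸ Q) := fun y hy => hn.conj_mem _ hy e
  have hquad : ∀ g : M ⧸ Q, r.ρY h (g⁻¹ * e * g) * r.ρY h (g⁻¹ * e * g) = -r.ρY h (g⁻¹ * e * g) - 1 := by
    intro g
    have h1 : r.ρY h g⁻¹ * r.ρY h g = 1 := by rw [← map_mul, inv_mul_cancel, map_one]
    rw [← map_mul, show g⁻¹ * e * g * (g⁻¹ * e * g) = g⁻¹ * (e * e) * g by group]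
    simp only [map_mul]
    rw [he]
    calc r.ρY h g⁻¹ * (-r.ρY h e - 1) * r.ρY h g = -(r.ρY h g⁻¹ * r.ρY h e * r.ρY h g) - r.ρY h g⁻¹ * r.ρY h g := by
          noncomm_ring
      _ = _ := by rw [h1]
  have hmul : ∀ y : M ⧸ Q, r.ρY h e * r.ρY h y = r.ρY h (e * y * e⁻¹) * r.ρY h e := by
    intro y
    rw [← map_mul, ← map_mul, inv_mul_cancel_right]
  by_cases hex : ∃ x ∈ pCore 2 (M ⧸ Q), (e⁻¹ * x⁻¹ * e * x) * (e⁻¹ * x⁻¹ * e * x) = t
  · right
    obtain ⟨x, hx, hxt⟩ := hex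
    refine ⟨e⁻¹ * x⁻¹ * e * x, hyR x hx, e * (e⁻¹ * x⁻¹ * e * x) * e⁻¹, hcR _ (hyR x hx), ?_⟩
    generalize hy : e⁻¹ * x⁻¹ * e * x = y at *
    have hey : e * y = x⁻¹ * e * x := by rw [← hy]; group
    have h1 := hquad x
    rw [← hey, map_mul] at h1
    have h2 : r.ρY h (e * y * e⁻¹) * r.ρY h (e * y * e⁻¹) = -1 := by
      rw [← map_mul, show e * y * e⁻¹ * (e * y * e⁻¹) = e * (y * y) * e⁻¹ by group, hxt, ht.comm e,
        mul_inv_cancel_right]
      exact hneg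
    have h3 := QuadAlg.alg2 end_three' he h1 (hmul y) h2
    intro u hu huy huy'
    apply r.ρY_inj h
    rw [map_mul, map_mul, h3]
    have h4 : r.ρY h y * r.ρY h u = r.ρY h u * r.ρY h y := by rw [← map_mul, ← map_mul, huy]
    have h5 : r.ρY h (e * y * e⁻¹) * r.ρY h u = r.ρY h u * r.ρY h (e * y * e⁻¹) := by
      rw [← map_mul, ← map_mul, huy']
    have h6 : r.ρY h (e * y * e⁻¹) * r.ρY h y * r.ρY h u = r.ρY h u * (r.ρY h (e * y * e⁻¹) * r.ρY h y) := by
      rw [mul_assoc, h4, ← mul_assoc, h5, mul_assoc]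
    rw [sub_mul, sub_mul, sub_mul, one_mul, h4, h5, h6, mul_sub, mul_sub, mul_sub, mul_one]
  · left
    push Not at hex
    intro x hx
    have hyy : (e⁻¹ * x⁻¹ * e * x) * (e⁻¹ * x⁻¹ * e * x) = 1 := (ht.sq' _ (hyR x hx)).resolve_right (hex x hx)
    have hyR' := hyR x hx
    generalize hy : e⁻¹ * x⁻¹ * e * x = y at *
    have hey : e * y = x⁻¹ * e * x := by rw [← hy]; group
    have hey' : e * (e * y * e⁻¹) = (x * e⁻¹)⁻¹ * e * (x * e⁻¹) := by
      rw [show e * (e * y * e⁻¹) = e * (e * y) * e⁻¹ by group, hey]; group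
    have hey'' : e * (e * (e * y * e⁻¹) * e⁻¹) = (x * e⁻¹ * e⁻¹)⁻¹ * e * (x * e⁻¹ * e⁻¹) := by
      rw [hey']; simp only [mul_inv_rev, inv_inv, mul_assoc]
    have q1 := hquad x
    rw [← hey, map_mul] at q1
    have q2 := hquad (x * e⁻¹)
    rw [← hey', map_mul] at q2
    have q3 := hquad (x * e⁻¹ * e⁻¹)
    rw [← hey'', map_mul] at q3
    have s1 : r.ρY h y * r.ρY h y = 1 := by rw [← map_mul, hyy, map_one]
    have s2 : r.ρY h (e * y * e⁻¹) * r.ρY h (e * y * e⁻¹) = 1 := by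
      rw [← map_mul, show e * y * e⁻¹ * (e * y * e⁻¹) = e * (y * y) * e⁻¹ by group, hyy, mul_one, mul_inv_cancel,
        map_one]
    have s3 : r.ρY h (e * (e * y * e⁻¹) * e⁻¹) * r.ρY h (e * (e * y * e⁻¹) * e⁻¹) = 1 := by
      rw [← map_mul, show e * (e * y * e⁻¹) * e⁻¹ * (e * (e * y * e⁻¹) * e⁻¹) = e * (e * (y * y) * e⁻¹) * e⁻¹ by group,
        hyy, mul_one, mul_inv_cancel, mul_one, mul_inv_cancel, map_one]
    have hcyc : e * (e * (e * y * e⁻¹) * e⁻¹) * e⁻¹ = y := by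
      have h1 : e * (e * (e * y * e⁻¹) * e⁻¹) * e⁻¹ = e ^ 3 * y * (e ^ 3)⁻¹ := by
        rw [pow_succ, pow_two]; group
      rw [h1, he3, inv_one, mul_one, one_mul]
    have a1 := QuadAlg.alg3 he q1 (hmul y) s2
    have a2 := QuadAlg.alg3 he q2 (hmul _) s3
    have a3 := QuadAlg.alg3 he q3 (by rw [hmul, hcyc]) s1
    have a4 := QuadAlg.alg4 end_three' a1 a2 a3
    have hyc : e * y * e⁻¹ = y := by
      rcases ht.cc y hyR' (e * y * e⁻¹) (hcR y hyR') with h1 | h1
      · have h2 : r.ρY h (e * y * e⁻¹) * r.ρY h y = r.ρY h y * r.ρY h (e * y * e⁻¹) := by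
          rw [← map_mul, ← map_mul, h1]
        rw [h2, ← two_mul, ← map_mul] at a4
        have h3 : r.ρY h (y * (e * y * e⁻¹)) = 1 := by
          have h5 : (3 : Module.End (ZMod 3) V) * (r.ρY h (y * (e * y * e⁻¹)) - 1) = 0 := end_three _
          have h6 : (3 : Module.End (ZMod 3) V) * (r.ρY h (y * (e * y * e⁻¹)) - 1) =
              (2 * r.ρY h (y * (e * y * e⁻¹)) - 2) + (r.ρY h (y * (e * y * e⁻¹)) - 1) := by
            rw [show (3 : Module.End (ZMod 3) V) = 2 + 1 by norm_num, add_mul, one_mul, mul_sub, mul_one]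
          rw [h6, a4, sub_self, zero_add, sub_eq_zero] at h5
          exact h5
        have h4 := (r.ρY_eq_one_iff h _).1 h3
        calc e * y * e⁻¹ = (y * y) * (e * y * e⁻¹) := by rw [hyy, one_mul]
          _ = y * (y * (e * y * e⁻¹)) := by group
          _ = y := by rw [h4, mul_one]
      · exfalso
        have h2 : r.ρY h y * r.ρY h (e * y * e⁻¹) = -(r.ρY h (e * y * e⁻¹) * r.ρY h y) := by
          rw [← map_mul, h1, map_mul, hneg, neg_one_mul, map_mul]
        rw [h2, neg_add_cancel] at a4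
        have h3 : (1 : Module.End (ZMod 3) V) = 3 - 2 := by
          have : (3 : Module.End (ZMod 3) V) = 2 + 1 := by norm_num
          rw [this, add_sub_cancel_left]
        rw [← a4, end_three', sub_zero] at h3
        exact one_ne_zero h3
    have hcomm : e * y = y * e := by
      calc e * y = (e * y * e⁻¹) * e := by group
        _ = y * e := by rw [hyc]
    have h3 : (e * y) ^ 3 = 1 := by
      rw [hey, show (x⁻¹ * e * x) ^ 3 = x⁻¹ * e ^ 3 * x by rw [pow_succ, pow_two, pow_succ, pow_two]; group, he3,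
        mul_one, inv_mul_cancel]
    rw [(show Commute e y from hcomm).mul_pow, he3, one_mul] at h3
    have h4 : y = 1 := by
      calc y = y ^ 3 * (y * y)⁻¹ := by rw [pow_succ, pow_two]; group
        _ = 1 := by rw [h3, hyy, inv_one, mul_one]
    rw [h4, mul_one] at hey
    calc e * x = (x * (x⁻¹ * e * x)) := by group
      _ = x * e := by rw [← hey]

end Cfsg.Agent.H243
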