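import Mathlib
import Cfsg.Agent.H243.Quad
import Cfsg.Agent.H243.Count

/-!
# Abelian 3-subgroups of `M` have order at most `3^7` (helper243)
-/

set_option autoImplicit false

namespace Cfsg.Agent.H243

open Subgroup Cfsg Module
open scoped commutatorElement

universe u

variable {M : Type u} [Group M] {Q : Subgroup M} [Q.Normal] {V : Type u} [AddCommGroup V] [Module (ZMod 3) V]

theorem add3 (w : V) : w + w + w = 0 := by
  have h5 : (3 : ZMod 3) • w = 0 := by rw [show (3 : ZMod 3) = 0 from by decide, zero_smul]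
  have h6 : (3 : ZMod 3) = 1 + 1 + 1 := by decide
  rw [h6, add_smul, add_smul, one_smul] at h5
  exact h5

theorem Hyp.cent_R_le [Finite M] (h : Hyp Q) : centralizer (pCore 2 (M ⧸ Q) : Set (M ⧸ Q)) ≤ pCore 2 (M ⧸ Q) := by
  have h1 := Cfsg.Agent.Lib.GenFitting.centralizer_genFitting_le (G := M ⧸ Q)
  rw [h.fR] at h1
  exact h1

/-- an element of order 3 of `M / Q` acts nontrivially on `R` -/
theorem Hyp.eq_one_of_cent_R [Finite M] (h : Hyp Q) {e : M ⧸ Q} (he : e ^ 3 = 1)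
    (hc : ∀ x ∈ pCore 2 (M ⧸ Q), e * x = x * e) : e = 1 := by
  have h1 : e ∈ centralizer (pCore 2 (M ⧸ Q) : Set (M ⧸ Q)) := by
    rw [mem_centralizer_iff]
    intro x hx
    exact (hc x hx).symm
  have h2 := h.cent_R_le h1
  have h3 : (⟨e, h2⟩ : ↥(pCore 2 (M ⧸ Q))) ^ 128 = 1 := by
    have := pow_card_eq_one' (G := ↥(pCore 2 (M ⧸ Q))) (x := ⟨e, h2⟩)
    rw [h.cardR] at this
    exact this
  have h4 : e ^ 128 = 1 := congrArg Subtype.val h3
  have h5 := pow_gcd_eq_one.2 ⟨he, h4⟩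
  have h6 : Nat.gcd 3 128 = 1 := by norm_num
  rw [h6, pow_one] at h5
  exact h5

/-- quadratic elements: centralizer in `R` of order 32 -/
theorem Rep.card_cR [Finite M] (h : Hyp Q) (r : Rep Q V) {e : M ⧸ Q} (hne : e ≠ 1)
    (he : r.ρY h e * r.ρY h e = -r.ρY h e - 1) : Nat.card ↥(Count.cR (pCore 2 (M ⧸ Q)) e) = 32 := by
  have hn : (pCore 2 (M ⧸ Q)).Normal := Cfsg.Agent.Lib.Cores.pCore_normal 2
  obtain ⟨t, ht⟩ := h.exists_t
  obtain ⟨h3, h1⟩ := r.quad_cent h he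
  have hne' : ∃ x ∈ pCore 2 (M ⧸ Q), e * x ≠ x * e := by
    by_contra hcon
    push Not at hcon
    exact hne (h.eq_one_of_cent_R h3 hcon)
  have hcard : Nat.card ↥(pCore 2 (M ⧸ Q)) = 128 := by rw [h.cardR]; norm_num
  refine Count.card_cR_eq h3 hcard ?_ hne'
  rcases h1 with h1 | ⟨y, hy, y', hy', h1⟩
  · exact absurd (h.eq_one_of_cent_R h3 h1) hne
  · exact Count.card_cR_of_two hcard (fun x => ht.cc x x.2 y hy) (fun x => ht.cc x x.2 y' hy') ht.sq
      (fun x _ => ht.comm x) h1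

theorem Rep.no_quad27 [Finite M] (h : Hyp Q) (r : Rep Q V) (E : Subgroup (M ⧸ Q)) (hE : Nat.card ↥E = 27)
    (he : ∀ e ∈ E, r.ρY h e * r.ρY h e = -r.ρY h e - 1) : False := by
  have hn : (pCore 2 (M ⧸ Q)).Normal := Cfsg.Agent.Lib.Cores.pCore_normal 2
  have h1 := Count.dvd_count (R := pCore 2 (M ⧸ Q)) E (by rw [h.cardR]; norm_num)
    (fun e heE hne => r.card_cR h hne (he e heE))
  rw [hE] at h1
  norm_num at h1

theorem Hyp.comm_le_center (h : Hyp Q) : commutator ↥Q ≤ center ↥Q := le_of_eq h.extra.1.2.2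

theorem Hyp.cyc (h : Hyp Q) : IsCyclic ↥(center ↥Q) := by
  have : Fact (Nat.Prime 3) := ⟨Nat.prime_three⟩
  exact isCyclic_of_prime_card h.card_center

/-- the subgroup generated by a subgroup and the centre -/
theorem Hyp.card_comm_le [Finite M] (h : Hyp Q) (B : Subgroup ↥Q) (hB : center ↥Q ≤ B)
    (hab : ∀ a ∈ B, ∀ b ∈ B, a * b = b * a) : Nat.card ↥B ≤ 3 ^ 5 := by
  have h1 := Cfsg.Agent.Lib.ClassTwoDuality.card_centralizer_mul_card h.comm_le_center h.cyc B hB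
  rw [h.card, h.card_center] at h1
  have h2 : B ≤ centralizer (B : Set ↥Q) := by
    intro b hb
    rw [mem_centralizer_iff]
    intro a ha
    exact hab a ha b hb
  have h3 := Subgroup.card_le_of_le h2
  by_contra hcon
  push Not at hcon
  have h4 : 3 ^ 5 * 3 ^ 5 < Nat.card ↥(centralizer (B : Set ↥Q)) * Nat.card ↥B :=
    Nat.mul_lt_mul'' (lt_of_lt_of_le hcon h3) hcon
  rw [h1] at h4
  norm_num at h4

theorem sup_comm (A : Subgroup ↥Q) (hab : ∀ a ∈ A, ∀ b ∈ A, a * b = b * a) :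
    ∀ a ∈ A ⊔ center ↥Q, ∀ b ∈ A ⊔ center ↥Q, a * b = b * a := by
  intro a ha b hb
  obtain ⟨a1, ha1, z1, hz1, rfl⟩ := Subgroup.mem_sup_of_normal_right.1 ha
  obtain ⟨b1, hb1, z2, hz2, rfl⟩ := Subgroup.mem_sup_of_normal_right.1 hb
  have e1 := mem_center_iff.1 hz1
  have e2 := mem_center_iff.1 hz2
  calc a1 * z1 * (b1 * z2) = a1 * (z1 * b1) * z2 := by group
    _ = (a1 * b1) * (z1 * z2) := by rw [← e1 b1]; group
    _ = (b1 * a1) * (z2 * z1) := by rw [hab a1 ha1 b1 hb1, ← e2 z1]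
    _ = b1 * (a1 * z2) * z1 := by group
    _ = b1 * z2 * (a1 * z1) := by rw [e2 a1]; group

/-- **Abelian 3-subgroups.** -/
theorem Hyp.card_abelian [Finite M] (h : Hyp Q)
    (hY : ∀ E : Subgroup (M ⧸ Q), IsPGroup 3 ↥E → (∀ a ∈ E, ∀ b ∈ E, a * b = b * a) → Nat.card ↥E ≤ 27)
    {A : Subgroup M} (hA : IsPGroup 3 ↥A) (hab : ∀ a ∈ A, ∀ b ∈ A, a * b = b * a) : Nat.card ↥A ≤ 3 ^ 7 := by
  have : Fact (Nat.Prime 3) := ⟨Nat.prime_three⟩
  obtain ⟨V, _, _, ⟨r⟩⟩ := h.exists_rep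
  by_contra hcon
  push Not at hcon
  -- `|A| = |A ∩ Q| |A Q / Q|`
  have hcard : Nat.card ↥(A.subgroupOf Q) * Nat.card ↥(A.map (QuotientGroup.mk' Q)) = Nat.card ↥A := by
    have h1 := Subgroup.card_mul_index ((QuotientGroup.mk' Q).comp A.subtype).ker
    rw [Subgroup.index_ker] at h1
    have h2 : ((QuotientGroup.mk' Q).comp A.subtype).range = A.map (QuotientGroup.mk' Q) := by
      rw [MonoidHom.range_comp, Subgroup.range_subtype]
    rw [h2] at h1
    rw [← h1]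
    congr 1
    have h3 : ((QuotientGroup.mk' Q).comp A.subtype).ker = Q.subgroupOf A := by
      rw [← MonoidHom.comap_ker, QuotientGroup.ker_mk']
      rfl
    rw [h3]
    refine Nat.card_congr ?_
    exact
      { toFun := fun x => ⟨⟨x.1.1, x.2⟩, x.1.2⟩
        invFun := fun x => ⟨⟨x.1.1, x.2⟩, x.1.2⟩
        left_inv := fun _ => rfl
        right_inv := fun _ => rfl }
  have hE27 : Nat.card ↥(A.map (QuotientGroup.mk' Q)) ≤ 27 := by
    refine hY _ (hA.map _) ?_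
    rintro _ ⟨a, ha, rfl⟩ _ ⟨b, hb, rfl⟩
    rw [← map_mul, ← map_mul, hab a ha b hb]
  have hA0ab : ∀ a ∈ A.subgroupOf Q, ∀ b ∈ A.subgroupOf Q, a * b = b * a := by
    intro a ha b hb
    exact Subtype.ext (hab a ha b hb)
  have hB := h.card_comm_le (A.subgroupOf Q ⊔ center ↥Q) le_sup_right (sup_comm _ hA0ab)
  have hA0 : Nat.card ↥(A.subgroupOf Q) ≤ 3 ^ 5 := (Subgroup.card_le_of_le le_sup_left).trans hB
  -- powers of 3
  obtain ⟨n, hn⟩ := IsPGroup.iff_card.1 hA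
  have hn8 : 8 ≤ n := by
    by_contra hlt
    push Not at hlt
    have h1 : 3 ^ n ≤ 3 ^ 7 := Nat.pow_le_pow_right (by norm_num) (by omega)
    omega
  have hge : 3 ^ 8 ≤ Nat.card ↥A := by
    rw [hn]
    exact Nat.pow_le_pow_right (by norm_num) hn8
  have hEeq : Nat.card ↥(A.map (QuotientGroup.mk' Q)) = 27 := by
    refine le_antisymm hE27 ?_
    by_contra hlt
    push Not at hlt
    have h1 : Nat.card ↥(A.subgroupOf Q) * Nat.card ↥(A.map (QuotientGroup.mk' Q)) ≤ 3 ^ 5 * 26 :=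
      Nat.mul_le_mul hA0 (by omega)
    rw [hcard] at h1
    norm_num at h1 hge
    omega
  have hA0eq : Nat.card ↥(A.subgroupOf Q) = 3 ^ 5 := by
    refine le_antisymm hA0 ?_
    by_contra hlt
    push Not at hlt
    have h1 : Nat.card ↥(A.subgroupOf Q) * Nat.card ↥(A.map (QuotientGroup.mk' Q)) ≤ (3 ^ 5 - 1) * 27 :=
      Nat.mul_le_mul (by omega) hE27
    rw [hcard] at h1
    norm_num at h1 hge
    omega
  have hBA : A.subgroupOf Q = A.subgroupOf Q ⊔ center ↥Q :=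
    Subgroup.eq_of_le_of_card_ge le_sup_left (by rw [hA0eq]; exact hB)
  have hZA : center ↥Q ≤ A.subgroupOf Q := by rw [hBA]; exact le_sup_right
  have hCA : centralizer (A.subgroupOf Q : Set ↥Q) = A.subgroupOf Q := by
    have h1 := Cfsg.Agent.Lib.ClassTwoDuality.card_centralizer_mul_card h.comm_le_center h.cyc _ hZA
    rw [h.card, h.card_center, hA0eq] at h1
    symm
    refine Subgroup.eq_of_le_of_card_ge ?_ ?_
    · intro b hb
      rw [mem_centralizer_iff]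
      intro a ha
      exact hA0ab a ha b hb
    · rw [hA0eq]
      have h2 : Nat.card ↥(centralizer (A.subgroupOf Q : Set ↥Q)) * 3 ^ 5 = 3 ^ 5 * 3 ^ 5 := by
        rw [h1]; norm_num
      exact le_of_eq (Nat.eq_of_mul_eq_mul_right (by norm_num) h2)
  -- the action is quadratic
  have hcom : ∀ a ∈ A, ∀ x : ↥Q, x⁻¹ * cj Q a x ∈ A.subgroupOf Q := by
    intro a ha x
    rw [← hCA, mem_centralizer_iff]
    intro b hb
    have hb' : (b : M) ∈ A := hb
    have hab' := hab a ha b hb'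
    -- the commutator `z = x b x⁻¹ b⁻¹`
    have hz : x * b * x⁻¹ * b⁻¹ ∈ center ↥Q := by
      have := commutator_mem_center h.extra x⁻¹ b⁻¹
      rwa [inv_inv, inv_inv] at this
    have hcz : cj Q a (x * b * x⁻¹ * b⁻¹) = x * b * x⁻¹ * b⁻¹ := by
      apply Subtype.ext
      have := h.cenZ _ hz a
      simp only [cj]
      rw [this, mul_inv_cancel_right]
    have h1 : ((x * b * x⁻¹ * b⁻¹ : ↥Q) : M) = a * (x * b * x⁻¹ * b⁻¹ : ↥Q) * a⁻¹ := by
      conv_lhs => rw [← hcz]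
      rfl
    simp only [Subgroup.coe_mul, Subgroup.coe_inv] at h1
    apply Subtype.ext
    simp only [cj, Subgroup.coe_mul, Subgroup.coe_inv]
    have h2 : a * ((x : M) * b * (x : M)⁻¹ * (b : M)⁻¹) * a⁻¹ =
        (a * x * a⁻¹) * b * (a * x * a⁻¹)⁻¹ * (b : M)⁻¹ := by
      have h3 : a * (b : M) * a⁻¹ = b := by rw [hab', mul_inv_cancel_right]
      have h4 : a * (b : M)⁻¹ * a⁻¹ = (b : M)⁻¹ := by
        calc a * (b : M)⁻¹ * a⁻¹ = (a * (b : M) * a⁻¹)⁻¹ := by group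
          _ = (b : M)⁻¹ := by rw [h3]
      calc a * ((x : M) * b * (x : M)⁻¹ * (b : M)⁻¹) * a⁻¹
          = (a * x * a⁻¹) * (a * b * a⁻¹) * (a * x * a⁻¹)⁻¹ * (a * (b : M)⁻¹ * a⁻¹) := by group
        _ = _ := by rw [h3, h4]
    rw [h2, mul_left_inj] at h1
    -- `x b x⁻¹ = x' b x'⁻¹`
    calc (b : M) * ((x : M)⁻¹ * (a * x * a⁻¹)) = (x : M)⁻¹ * ((x : M) * b * (x : M)⁻¹) * (a * x * a⁻¹) := by group
      _ = (x : M)⁻¹ * ((a * x * a⁻¹) * b * (a * x * a⁻¹)⁻¹) * (a * x * a⁻¹) := by rw [h1]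
      _ = (x : M)⁻¹ * (a * x * a⁻¹) * b := by group
  have hfix : ∀ a ∈ A, ∀ b ∈ A.subgroupOf Q, cj Q a b = b := by
    intro a ha b hb
    apply Subtype.ext
    simp only [cj]
    rw [hab a ha b hb, mul_inv_cancel_right]
  refine r.no_quad27 h _ hEeq ?_
  rintro _ ⟨a, ha, rfl⟩
  change r.ρY h (QuotientGroup.mk a) * r.ρY h (QuotientGroup.mk a) = -r.ρY h (QuotientGroup.mk a) - 1
  rw [r.ρY_mk]
  apply LinearMap.ext
  intro v
  obtain ⟨x, hx⟩ := r.surj (Multiplicative.ofAdd v)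
  have hv : v = (r.π x).toAdd := by rw [hx]; rfl
  have h1 : r.ρ a v = v + (r.π (x⁻¹ * cj Q a x)).toAdd := by
    rw [hv, r.act, ← toAdd_mul, ← map_mul]
    congr 2
    group
  have h2 : r.ρ a (r.π (x⁻¹ * cj Q a x)).toAdd = (r.π (x⁻¹ * cj Q a x)).toAdd := by
    rw [r.act, hfix a ha _ (hcom a ha x)]
  rw [Module.End.mul_apply, h1, map_add, h1, h2, LinearMap.sub_apply, LinearMap.neg_apply, Module.End.one_apply, h1]
  generalize (r.π (x⁻¹ * cj Q a x)).toAdd = w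
  have h4 := add3 v
  have h5 := add3 w
  have e1 : v + w + w = -(v + w) - v + ((v + v + v) + (w + w + w)) := by abel
  rw [e1, h4, h5]
  abel

end Cfsg.Agent.H243
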