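import Mathlib

/-!
# Alternating groups: an elementary abelian subgroup of order `3^9` (helper243)
-/

set_option autoImplicit false

namespace Cfsg.Agent.H243.AltRow

open Subgroup

/-- translations -/
def tr : Multiplicative (Fin 9 → ZMod 3) →* Equiv.Perm (Fin 9 × ZMod 3) where
  toFun v :=
    { toFun := fun p => (p.1, p.2 + v.toAdd p.1)
      invFun := fun p => (p.1, p.2 - v.toAdd p.1)
      left_inv := fun p => by simp
      right_inv := fun p => by simp }
  map_one' := by
    ext p <;> simp
  map_mul' v w := by
    ext p <;> simp [add_comm, add_left_comm]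

theorem tr_inj : Function.Injective tr := by
  intro v w h
  apply Multiplicative.toAdd.injective
  funext i
  have := congrArg (fun e : Equiv.Perm (Fin 9 × ZMod 3) => (e (i, 0)).2) h
  simpa [tr] using this

theorem alt_false {K : Type*} [Group K] {n : ℕ} (h12 : 3 ^ 12 ∣ Nat.card K)
    (hab : ∀ A : Subgroup K, IsPGroup 3 ↥A → (∀ a ∈ A, ∀ b ∈ A, a * b = b * a) → Nat.card ↥A ≤ 3 ^ 7)
    (e : K ≃* ↥(alternatingGroup (Fin n))) : False := by
  rcases Nat.lt_or_ge n 27 with hn | hn
  · have h1 : Nat.card K ∣ Nat.factorial 26 := by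
      rw [Nat.card_congr e.toEquiv]
      refine (Subgroup.card_subgroup_dvd_card (alternatingGroup (Fin n))).trans ?_
      rw [Nat.card_eq_fintype_card, Fintype.card_perm, Fintype.card_fin]
      exact Nat.factorial_dvd_factorial (by omega)
    have h2 := h12.trans h1
    exact absurd h2 (by decide +kernel)
  · -- the embedding
    have hemb : Nonempty ((Fin 9 × ZMod 3) ↪ Fin n) := by
      rw [Function.Embedding.nonempty_iff_card_le]
      simp only [Fintype.card_prod, Fintype.card_fin, ZMod.card]
      omega
    obtain ⟨ι⟩ := hemb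
    let f : Multiplicative (Fin 9 → ZMod 3) →* Equiv.Perm (Fin n) := (Equiv.Perm.viaEmbeddingHom ι).comp tr
    have hf : Function.Injective f := (Equiv.Perm.viaEmbeddingHom_injective ι).comp tr_inj
    have h3 : ∀ v : Multiplicative (Fin 9 → ZMod 3), v ^ 3 = 1 := by
      intro v
      apply Multiplicative.toAdd.injective
      rw [toAdd_pow, toAdd_one]
      funext i
      have : ∀ x : ZMod 3, 3 • x = 0 := by decide
      exact this _
    have hs : ∀ v, f v ∈ alternatingGroup (Fin n) := by
      intro v
      rw [Equiv.Perm.mem_alternatingGroup]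
      have h4 : (Equiv.Perm.sign (f v)) ^ 3 = 1 := by
        rw [← map_pow, ← map_pow, h3, map_one, map_one]
      rcases Int.units_eq_one_or (Equiv.Perm.sign (f v)) with h5 | h5
      · exact h5
      · rw [h5] at h4
        exact absurd h4 (by decide)
    let g : Multiplicative (Fin 9 → ZMod 3) →* K := e.symm.toMonoidHom.comp (f.codRestrict _ hs)
    have hg : Function.Injective g := by
      intro v w h
      have h4 := e.symm.injective h
      exact hf (congrArg Subtype.val h4)
    have hp : IsPGroup 3 ↥g.range := by
      rintro ⟨_, v, rfl⟩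
      refine ⟨1, Subtype.ext ?_⟩
      change g v ^ 3 ^ 1 = 1
      rw [pow_one, ← map_pow, h3, map_one]
    have h4 := hab g.range hp (by
      rintro _ ⟨a, rfl⟩ _ ⟨b, rfl⟩
      rw [← map_mul, ← map_mul, mul_comm])
    have h5 : Nat.card ↥g.range = 3 ^ 9 := by
      rw [← Nat.card_congr (MonoidHom.ofInjective hg).toEquiv]
      have : Nat.card (Multiplicative (Fin 9 → ZMod 3)) = Nat.card (Fin 9 → ZMod 3) := rfl
      rw [this, Nat.card_eq_fintype_card, Fintype.card_fun, Fintype.card_fin, ZMod.card]
    rw [h5] at h4
    norm_num at h4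

end Cfsg.Agent.H243.AltRow
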