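import Cfsg.Agent.H243.EMBGrp
import Cfsg.Agent.CTwoTab.BInst
import Cfsg.Agent.S2058

/-!
# S2243, the Baby Monster (4): the row (helper243)
-/

set_option autoImplicit false
set_option maxRecDepth 100000

open Subgroup

namespace Cfsg.Agent.H243.EMB

open Cfsg Cfsg.Agent.H51.Mult Cfsg.Agent.H277.MI Cfsg.Agent.BabyComp

universe u

theorem commutator_b : commutator Spor.BabyMonster = ⊤ := by
  have hs : IsSimpleGroup Cfsg.Spor.BabyMonster := Cfsg.Agent.S1704.result.1
  have hc : Nat.card Cfsg.Spor.BabyMonster = 4154781481226426191177580544000000 := Cfsg.Agent.S1704.result.2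
  exact Cfsg.Agent.H53.OddLift.commutator_eq_top_of_card hc (by norm_num)

/-- **The Baby Monster: one elementary abelian group meets all classes of involutions.** -/
theorem em_b : EM Spor.BabyMonster := by
  refine CTwoTab.BInst.elim ?_
  intro K iF iT hK hF i1 i2 i3 i4 q y h π f₁ f₂ f₃ f₄ M₁ hq h10 DK Fc hz hcz hcd hL hc5 big hq5 hcard Bs hr
  obtain ⟨M₂, z, Y, w, Bs2, EF⟩ := EMBGrp.exists_facts hq5
  exact EMBGrp.em_base (hF := hF) (Cfsg.Agent.TwoESix.LeviG.rootFacts hK hF) (Cfsg.Agent.BabyU.KeyInst.extra hF)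
    (Cfsg.Agent.TwoESix.RootsInst.roots K hF) hq h10 DK Fc hc5 big Bs2 EF

theorem crow_b' : CRow Spor.BabyMonster := by
  refine CTwoTab.BInst.elim ?_
  intro K iF iT hK hF i1 i2 i3 i4 q y h π f₁ f₂ f₃ f₄ M₁ hq h10 DK Fc hz hcz hcd hL hc5 big hq5 hcard Bs hr
  exact EMBGrp.crow_of hq Fc commutator_b Cfsg.Agent.S2058.result em_b

/-- **The row of the Baby Monster.** -/
theorem crow_b {L : Type u} [Group L] (h : Cfsg.Spor.IsoB L) : CRow L := by
  obtain ⟨e⟩ := h
  exact crow_b'.congr e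

end Cfsg.Agent.H243.EMB
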