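import Cfsg.Agent.H243.EMBModel
import Cfsg.Agent.BabyComp.BaseTwo
import Cfsg.Agent.H277.EM.Univ

/-!
# S2243, the Baby Monster (3): `B` and `2.B` (helper243)
-/

set_option autoImplicit false
set_option maxRecDepth 100000
set_option linter.unusedSectionVars false

open Subgroup
open scoped commutatorElement

namespace Cfsg.Agent.H243.EMBGrp

open Cfsg Cfsg.Agent.R01.Lifts Cfsg.Agent.MonsterN Cfsg.Agent.MonsterN.Lit Cfsg.Agent.H51.Mult Cfsg.Agent.H277.MI
open Cfsg.Agent.BabyComp Cfsg.Agent.BabyComp.Main Cfsg.Agent.BabyComp.BaseTwo Cfsg.Agent.H243.EMBModel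

/-! ### Transport of the facts -/

theorem efacts_comap {X Γ : Type*} [Group X] [Group Γ] {M : Subgroup Γ} {τ z Y w : Γ} (F : EFacts τ M z Y w)
    (e : X ≃* Γ) {t : X} (ht : e t = τ) : EFacts t (M.comap e.toMonoidHom) (e.symm z) (e.symm Y) (e.symm w) := by
  have hc : ∀ {a b : X}, IsConj a b ↔ IsConj (e a) (e b) := by
    intro a b
    constructor
    · intro h
      exact e.toMonoidHom.map_isConj h
    · intro h
      have h1 := e.symm.toMonoidHom.map_isConj h
      have h2 : ∀ x : X, e.symm.toMonoidHom (e x) = x := fun x => e.symm_apply_apply x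
      rwa [h2, h2] at h1
  refine ⟨?_, ?_, ?_, ?_, ?_, ?_, ?_, ?_, ?_, ?_⟩
  · rw [← map_mul, F.zz, map_one]
  · rw [← map_mul, F.YY, map_one]
  · rw [← map_mul, F.ww, map_one]
  · rw [← map_mul, F.Yz, map_mul]
  · rw [← map_mul, F.wz, map_mul]
  · rw [← map_mul, F.Yw, map_mul]
  · rw [hc, ht, e.apply_symm_apply]; exact F.tY
  · intro s hs hsM hst
    rw [hc, e.apply_symm_apply, map_mul, ht]
    refine F.adj _ ?_ hsM ?_
    · rw [← ht]; exact hc.1 hs
    · rw [← ht]; exact fun h => hst (e.injective h)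
  · intro a ha haz
    have h1 : e a * z = z * e a := by
      have h2 := congrArg e haz
      rwa [map_mul, map_mul, e.apply_symm_apply] at h2
    rcases F.out (e a) (by rw [← ht]; exact hc.1 ha) h1 with h | h
    · left
      rw [hc, map_mul, map_mul, e.apply_symm_apply, e.apply_symm_apply]; exact h
    · right
      rw [hc, map_mul, e.apply_symm_apply, ht]; exact h
  · intro u hu hu1
    rcases F.two (e u) (by rw [← map_mul, hu, map_one]) (fun h => hu1 (e.map_eq_one_iff.1 h)) with ⟨h, hh⟩ | h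
    · left
      refine ⟨e.symm h, ?_⟩
      show e ((e.symm h)⁻¹ * u * e.symm h) ∈ M
      rwa [map_mul, map_mul, map_inv, e.apply_symm_apply]
    · right
      rw [hc, map_mul, e.apply_symm_apply, e.apply_symm_apply]; exact h

theorem exists_facts {t : Spor.BabyMonster}
    (ht : IsConj t (PresentedGroup.of Spor.BabyMonster.Gen.t1 : Spor.BabyMonster)) :
    ∃ (M₁ : Subgroup Spor.BabyMonster) (z Y w : Spor.BabyMonster), Base t M₁ ∧ EFacts t M₁ z Y w := by
  have A := BabyM.Instance.all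
  let f := BM.KHAll.iso
  obtain ⟨g, hg0⟩ := BM.StageW.exists_conj BabyM.Instance.all BabyM.Instance.ok Cfsg.Spor.BabyMonster.Gen.t1
  have hg : f (PresentedGroup.of .t1) = g * BabyU.ClosModel.tt BabyM.Instance.all * g⁻¹ := (BM.KHAll.iso_gB _).trans hg0
  have hex : ∃ g : BabyM.Inst.M.G, g * BabyU.ClosModel.tt BabyM.Instance.all = BabyU.ClosModel.tt BabyM.Instance.all * g ∧
      g ∉ BabyU.ClosModel.MM BabyM.Inst.M := by
    obtain ⟨g, hg, h⟩ := BabyM.Instance.all.rep.neg
    refine ⟨⟨g, BabyM.Instance.all.C_le_G hg⟩, ?_, ?_⟩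
    · exact Subtype.ext (BabyM.Instance.all.rep.t₀_comm g hg (Or.inr h))
    · intro hm
      have h1 : g BabyM.Inst.M.d₀ = BabyM.Inst.M.d₀ := hm
      exact BabyU.ClosModel.ne_neg BabyM.Instance.all BabyM.Instance.all.d₀_mem (h1.symm.trans h)
  obtain ⟨c, hc⟩ := isConj_iff.1 ht
  let e := f.trans (MulAut.conj (g⁻¹ * f c))
  have he : e t = BabyU.ClosModel.tt BabyM.Instance.all := by
    show (g⁻¹ * f c) * f t * (g⁻¹ * f c)⁻¹ = _
    have h1 : f c * f t * (f c)⁻¹ = g * BabyU.ClosModel.tt BabyM.Instance.all * g⁻¹ := by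
      rw [← hg, ← hc, map_mul, map_mul, map_inv]
    calc (g⁻¹ * f c) * f t * (g⁻¹ * f c)⁻¹ = g⁻¹ * (f c * f t * (f c)⁻¹) * g := by group
      _ = _ := by rw [h1]; group
  exact ⟨_, _, _, _, BaseB.base_of BabyU.F8Inner.inner e he hex,
    efacts_comap EMBModel.model e he⟩

/-! ### The groups -/

section main

variable {B X E : Type*} [Group B] [Group X] [Group E] [Finite B] [Finite X] {q : B →* X} {τ : B} {R : Set E}
variable {y : ℕ → B} {h : Pre y} {π : KK y →* E} {f₁ f₂ f₃ f₄ : B}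

/-- The class 2B. -/
theorem conj_z (hq : Ext q τ) (h10 : y 10 = τ) (Fc : FusionType.Facts τ f₁ f₂ f₃ f₄)
    (hc5 : IsConj f₁ (y 5)) (big : KEq.Big B τ (y 5)) {M₁ : Subgroup X} (Bs : Base (q (y 5)) M₁)
    {z Y w : X} (F : EFacts (q (y 5)) M₁ z Y w) : IsConj z (q (f₁ * f₂)) := by
  have hM := Base.eq_map hq h10 big Bs
  obtain ⟨b, hb⟩ := isConj_iff.1 hc5
  have ht : IsConj (q (y 5)) (q (b * f₃ * b⁻¹)) :=
    q.map_isConj (hc5.symm.trans (Fc.a_3.trans (isConj_iff.2 ⟨b, rfl⟩)))
  have h1 : b * f₃ * b⁻¹ ∈ KK y := by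
    rw [mem_KK]
    refine ⟨by rw [h10]; exact hq.comm _, ?_⟩
    rw [← hb]
    calc b * f₃ * b⁻¹ * (b * f₁ * b⁻¹) = b * (f₃ * f₁) * b⁻¹ := by group
      _ = b * (f₁ * f₃) * b⁻¹ := by rw [Fc.c13]
      _ = _ := by group
  have h2 : q (b * f₃ * b⁻¹) ≠ q (y 5) := by
    intro e
    rcases hq.map_eq.1 e with e | e
    · have h3 : f₃ = f₁ := by
        rw [← hb] at e
        exact mul_left_cancel (mul_right_cancel e)
      have h4 : f₁ * f₃ = 1 := by rw [h3, Fc.sq₁]
      have h5 := Fc.y_13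
      rw [h4] at h5
      exact Fc.ne₂ (isConj_one_left.1 h5)
    · have h3 : f₃ = f₁ * τ := by
        rw [← hb] at e
        have h4 : f₃ = b⁻¹ * (b * f₃ * b⁻¹) * b := by group
        rw [h4, e]
        calc b⁻¹ * (b * f₁ * b⁻¹ * τ) * b = f₁ * (b⁻¹ * τ) * b := by group
          _ = f₁ * (τ * b⁻¹) * b := by rw [hq.comm]
          _ = f₁ * τ := by group
      have h4 : f₁ * f₃ = τ := by rw [h3, ← mul_assoc, Fc.sq₁, one_mul]
      have h5 := Fc.y_13
      rw [h4] at h5
      obtain ⟨c, hc⟩ := isConj_iff.1 h5.symm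
      apply Fc.ne₁
      rw [← hc, hq.comm c, mul_inv_cancel_right]
  have h3 := F.adj _ ht (by rw [hM]; exact ⟨_, h1, rfl⟩) h2
  refine h3.trans ?_
  rw [← map_mul, ← hb]
  refine q.map_isConj ?_
  refine IsConj.trans (isConj_iff.2 ⟨b⁻¹, ?_⟩) Fc.y_13.symm
  group

/-- **`E` meets all classes of involutions of `B`.** -/
theorem em_base {F : Type*} [Field F] [Fintype F] {hF : Fintype.card F = 2 ^ 2}
    (hR : Cfsg.Agent.BabyU.RootCfg.RootFacts hF R) (hX : Cfsg.Agent.BabyU.Key.Extra hF R)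
    (Rt : Cfsg.Agent.BabyU.Lab.Roots E R) (hq : Ext q τ) (h10 : y 10 = τ) (D : KD h R π)
    (Fc : FusionType.Facts τ f₁ f₂ f₃ f₄) (hc5 : IsConj f₁ (y 5)) (big : KEq.Big B τ (y 5))
    {M₁ : Subgroup X} (Bs : Base (q (y 5)) M₁) {z Y w : X} (EF : EFacts (q (y 5)) M₁ z Y w) : EM X := by
  have hz := conj_z hq h10 Fc hc5 big Bs EF
  refine em_of_commuting {z, Y, w} ?_ ?_ ?_
  · rintro r (rfl | rfl | rfl)
    · exact EF.zz
    · exact EF.YY
    · exact EF.ww
  · rintro r (rfl | rfl | rfl) s (rfl | rfl | rfl)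
    · rfl
    · exact EF.Yz.symm
    · exact EF.wz.symm
    · exact EF.Yz
    · rfl
    · exact EF.Yw
    · exact EF.wz
    · exact EF.Yw.symm
    · rfl
  · intro u ho
    have hzc : z ∈ closure ({z, Y, w} : Set X) := subset_closure (Or.inl rfl)
    have hYc : Y ∈ closure ({z, Y, w} : Set X) := subset_closure (Or.inr (Or.inl rfl))
    have hwc : w ∈ closure ({z, Y, w} : Set X) := subset_closure (Or.inr (Or.inr rfl))
    have key : ∀ {v : X}, v ∈ closure ({z, Y, w} : Set X) → IsConj u v → ∃ g, g * u * g⁻¹ ∈ closure ({z, Y, w} : Set X) := by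
      intro v hv huv
      obtain ⟨g, hg⟩ := isConj_iff.1 huv
      exact ⟨g, by rw [hg]; exact hv⟩
    have huu : u * u = 1 := by rw [← pow_two, ← ho, pow_orderOf_eq_one]
    have hu1 : u ≠ 1 := by
      rintro rfl
      rw [orderOf_one] at ho
      omega
    rcases EF.two u huu hu1 with ⟨g, hg⟩ | h1
    · obtain ⟨k, hk, hqk⟩ := M_le hq h10 big Bs _ hg
      have huk : IsConj u (q k) := isConj_iff.2 ⟨g⁻¹, by rw [hqk]; group⟩
      have hkk : k * k = 1 := by
        refine lift_sq hR hX Rt hq h10 D hk ?_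
        rw [hqk]
        calc g⁻¹ * u * g * (g⁻¹ * u * g) = g⁻¹ * (u * u) * g := by group
          _ = 1 := by rw [huu]; group
      have hqk1 : q k ≠ 1 := by
        intro e
        rw [e] at huk
        exact hu1 (isConj_one_left.1 huk)
      have hk1 : k ≠ 1 := fun e => hqk1 (by rw [e, map_one])
      have hkτ : k ≠ τ := fun e => hqk1 (by rw [e, hq.mapz])
      rcases Fc.classes k hkk hk1 hkτ with h1 | h1 | h1 | h1
      · exact key hYc (huk.trans ((q.map_isConj (h1.symm.trans hc5)).trans EF.tY))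
      · exact key hzc (huk.trans ((q.map_isConj h1.symm).trans hz.symm))
      · have h2 : q (τ * (f₁ * f₂)) = q (f₁ * f₂) := by rw [map_mul, hq.mapz, one_mul]
        have h3 := q.map_isConj h1.symm
        rw [h2] at h3
        exact key hzc (huk.trans (h3.trans hz.symm))
      · -- the class 2D
        have h2 : IsConj (q (f₂ * f₃)) z := (q.map_isConj Fc.y_23.symm).trans hz.symm
        obtain ⟨c, hc⟩ := isConj_iff.1 h2
        have ha : IsConj (q (y 5)) (c * q f₁ * c⁻¹) := (q.map_isConj hc5.symm).trans (isConj_iff.2 ⟨c, rfl⟩)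
        have hac : f₁ * (f₂ * f₃) = f₂ * f₃ * f₁ := by
          calc f₁ * (f₂ * f₃) = (f₁ * f₂) * f₃ := by group
            _ = f₂ * (f₁ * f₃) := by rw [Fc.c12]; group
            _ = _ := by rw [Fc.c13]; group
        have haz : c * q f₁ * c⁻¹ * z = z * (c * q f₁ * c⁻¹) := by
          rw [← hc]
          calc c * q f₁ * c⁻¹ * (c * q (f₂ * f₃) * c⁻¹) = c * (q f₁ * q (f₂ * f₃)) * c⁻¹ := by group
            _ = c * (q (f₂ * f₃) * q f₁) * c⁻¹ := by rw [← map_mul, hac, map_mul]
            _ = _ := by group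
        have h3 : IsConj u (c * q f₁ * c⁻¹ * z) := by
          refine huk.trans ((q.map_isConj h1.symm).trans (isConj_iff.2 ⟨c, ?_⟩))
          rw [← hc, map_mul, map_mul, map_mul]
          group
        rcases EF.out _ ha haz with h4 | h4
        · exact key (mul_mem hYc hzc) (h3.trans h4)
        · exact key hYc (h3.trans (h4.symm.trans EF.tY))
    · exact key (mul_mem hYc hwc) h1

/-- **`2.B`.** -/
theorem em_cover (Fc : FusionType.Facts τ f₁ f₂ f₃ f₄) : EM B := by
  refine em_of_commuting {τ, f₁, f₂, f₃} ?_ ?_ ?_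
  · rintro r (rfl | rfl | rfl | rfl)
    · exact Fc.t_sq
    · exact Fc.sq₁
    · exact Fc.sq₂
    · exact Fc.sq₃
  · have ht := Fc.cen
    rintro r (rfl | rfl | rfl | rfl) s (rfl | rfl | rfl | rfl)
    · rfl
    · exact (ht _).symm
    · exact (ht _).symm
    · exact (ht _).symm
    · exact ht _
    · rfl
    · exact Fc.c12
    · exact Fc.c13
    · exact ht _
    · exact Fc.c12.symm
    · rfl
    · exact Fc.c23
    · exact ht _
    · exact Fc.c13.symm
    · exact Fc.c23.symm
    · rfl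
  · intro u ho
    have h0 : τ ∈ closure ({τ, f₁, f₂, f₃} : Set B) := subset_closure (Or.inl rfl)
    have h1 : f₁ ∈ closure ({τ, f₁, f₂, f₃} : Set B) := subset_closure (Or.inr (Or.inl rfl))
    have h2 : f₂ ∈ closure ({τ, f₁, f₂, f₃} : Set B) := subset_closure (Or.inr (Or.inr (Or.inl rfl)))
    have h3 : f₃ ∈ closure ({τ, f₁, f₂, f₃} : Set B) := subset_closure (Or.inr (Or.inr (Or.inr rfl)))
    have huu : u * u = 1 := by rw [← pow_two, ← ho, pow_orderOf_eq_one]
    have hu1 : u ≠ 1 := by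
      rintro rfl
      rw [orderOf_one] at ho
      omega
    have key : ∀ {v : B}, v ∈ closure ({τ, f₁, f₂, f₃} : Set B) → IsConj v u →
        ∃ g, g * u * g⁻¹ ∈ closure ({τ, f₁, f₂, f₃} : Set B) := by
      intro v hv huv
      obtain ⟨g, hg⟩ := isConj_iff.1 huv.symm
      exact ⟨g, by rw [hg]; exact hv⟩
    by_cases huτ : u = τ
    · exact key h0 (by rw [huτ])
    rcases Fc.classes u huu hu1 huτ with h | h | h | h
    · exact key h1 h
    · exact key (mul_mem h1 h2) h
    · exact key (mul_mem h0 (mul_mem h1 h2)) h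
    · exact key (mul_mem (mul_mem h1 h2) h3) h

/-- `2.B` is perfect. -/
theorem perf (hq : Ext q τ) (Fc : FusionType.Facts τ f₁ f₂ f₃ f₄) (hX : commutator X = ⊤) : commutator B = ⊤ := by
  have hτ : τ ∈ commutator B := by
    obtain ⟨g, hg⟩ := isConj_iff.1 Fc.a_t
    have h1 : τ = ⁅g, f₁⁆ := by
      rw [commutatorElement_def, hg, mul_assoc, mul_inv_cancel, mul_one]
    rw [h1, _root_.commutator_def]
    exact Subgroup.commutator_mem_commutator (mem_top _) (mem_top _)
  rw [eq_top_iff]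
  intro b _
  have h2 : q b ∈ (commutator B).map q := by
    rw [_root_.commutator_def, Subgroup.map_commutator, Subgroup.map_top_of_surjective _ hq.surj,
      ← _root_.commutator_def, hX]
    exact mem_top _
  obtain ⟨c, hc, hcb⟩ := h2
  rcases hq.map_eq.1 hcb.symm with h3 | h3
  · rw [h3]; exact hc
  · rw [h3]; exact mul_mem hc hτ

theorem pce (hq : Ext q τ) (Fc : FusionType.Facts τ f₁ f₂ f₃ f₄) (hX : commutator X = ⊤) : PCE q := by
  refine ⟨hq.surj, ?_, perf hq Fc hX⟩
  intro k hk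
  rw [mem_center_iff]
  intro g
  rcases (hq.ker k).1 hk with rfl | rfl
  · rw [one_mul, mul_one]
  · exact hq.comm g

theorem card_ker (hq : Ext q τ) : Nat.card q.ker = 2 := by
  rw [Nat.card_eq_two_iff]
  refine ⟨⟨1, one_mem _⟩, ⟨τ, hq.mapz⟩, ?_, ?_⟩
  · intro h1
    exact hq.zne (congrArg Subtype.val h1).symm
  · rw [Set.eq_univ_iff_forall]
    rintro ⟨k, hk⟩
    rcases (hq.ker k).1 hk with h1 | h1
    · exact Or.inl (Subtype.ext h1)
    · exact Or.inr (Subtype.ext h1)

/-- **The row of `B`** from the universal cover `q`. -/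
theorem crow_of (hq : Ext q τ) (Fc : FusionType.Facts τ f₁ f₂ f₃ f₄) (hX : commutator X = ⊤)
    (hm : Cfsg.HasCyclicSchurMultiplier X 2) (hE : EM X) : CRow X := by
  intro L _ _ p hp _
  obtain ⟨f, hf, hpf⟩ := exists_cover_map_cyclic (pce hq Fc hX) hp hm (card_ker hq).ge
  by_cases hfτ : f τ = 1
  · have hinj : Function.Injective p := by
      rw [injective_iff_map_eq_one]
      intro a ha
      obtain ⟨x, rfl⟩ := hf a
      rw [hpf] at ha
      rcases (hq.ker x).1 ha with rfl | rfl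
      · exact map_one f
      · exact hfτ
    exact EM.congr (MulEquiv.ofBijective p ⟨hinj, hp.surj⟩) hE
  · have hinj : Function.Injective f := by
      rw [injective_iff_map_eq_one]
      intro a ha
      have h1 : q a = 1 := by rw [← hpf, ha, map_one]
      rcases (hq.ker a).1 h1 with h2 | h2
      · exact h2
      · exact absurd (h2 ▸ ha) hfτ
    exact EM.congr (MulEquiv.ofBijective f ⟨hinj, hf⟩).symm (em_cover Fc)

end main

end Cfsg.Agent.H243.EMBGrp
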