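import Mathlib
import Cfsg.Agent.H243.Facts

/-!
# The facts on the simple group `L = F*(G)` used in the elimination (helper243)

* `Fac K z` : common facts; `FacB K z` : case `M / O_{3,2}(M) ≅ PSp₄(3)`; `FacF K z` : case `C_{PSp₄(3)}(x)`.
-/

set_option autoImplicit false

namespace Cfsg.Agent.H243

open Subgroup Cfsg
open scoped commutatorElement

universe u

/-- common facts -/
structure Fac (K : Type u) [Group K] (z : K) : Prop where
  ord : orderOf z = 3
  d12 : 3 ^ 12 ∣ Nat.card K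
  n14 : ¬ 3 ^ 14 ∣ Nat.card K
  ab : ∀ A : Subgroup K, IsPGroup 3 ↥A → (∀ a ∈ A, ∀ b ∈ A, a * b = b * a) → Nat.card ↥A ≤ 3 ^ 7
  cd : Nat.card ↥(centralizer ({z} : Set K)) ∣ 2 ^ 13 * 3 ^ 13 * 5
  syl : ∃ P : Sylow 3 K, (P : Subgroup K) ≤ centralizer ({z} : Set K) ∧
    ∀ x : K, (∀ y ∈ (P : Subgroup K), y * x = x * y) → x ∈ zpowers z

/-- case `PSp₄(3)` -/
structure FacB (K : Type u) [Group K] (z : K) : Prop extends Fac K z where
  d13 : 3 ^ 13 ∣ Nat.card K
  c5 : 2 ^ 6 * 3 ^ 13 * 5 ∣ Nat.card ↥(centralizer ({z} : Set K))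

/-- case `C_{PSp₄(3)}(x)` -/
structure FacF (K : Type u) [Group K] (z : K) : Prop extends Fac K z where
  cd' : Nat.card ↥(centralizer ({z} : Set K)) ∣ 2 ^ 10 * 3 ^ 13
  c12 : 3 ^ 12 ∣ Nat.card ↥(centralizer ({z} : Set K))
  nc : ∃ W : Subgroup K, IsPGroup 3 ↥W ∧ W ≤ centralizer ({z} : Set K) ∧ ∃ a ∈ W, ∃ b ∈ W,
    ∀ N : Subgroup K, IsPGroup 3 ↥N → N ≤ centralizer ({z} : Set K) → centralizer ({z} : Set K) ≤ normalizer (N : Set K) →
      ⁅a, b⁆ ∉ N
  out3 : ¬ 3 ^ 13 ∣ Nat.card K → 3 ∣ Nat.card (Out K)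

variable {G : Type u} [Group G] {Z : Subgroup G} {Q : Subgroup ↥(centralizer (Z : Set G))} [Q.Normal] {L : Subgroup G}

/-- a Sylow subgroup of `L` -/
theorem Sit.exists_syl [Finite G] (s : Sit Z Q L) (hl : H261.Loc 3 Z (Q.map (centralizer (Z : Set G)).subtype))
    (hQ : Q ≤ NL Z L) {z : ↥L} (ho : orderOf z = 3) (hzZ : (z : G) ∈ Z)
    (hz : ∀ g : G, g ∈ centralizer (Z : Set G) ↔ g * z = z * g) :
    ∃ P : Sylow 3 ↥L, (P : Subgroup ↥L) ≤ centralizer ({z} : Set ↥L) ∧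
      ∀ x : ↥L, (∀ y ∈ (P : Subgroup ↥L), y * x = x * y) → x ∈ zpowers z := by
  have : Fact (Nat.Prime 3) := ⟨Nat.prime_three⟩
  have hQp : IsPGroup 3 ↥((Q.map (centralizer (Z : Set G)).subtype).subgroupOf L) := hl.pQ.comap_subtype
  obtain ⟨P, hP⟩ := hQp.exists_le_sylow
  have hT : IsPGroup 3 ↥((P : Subgroup ↥L).map L.subtype) := P.isPGroup'.map _
  have hQT : Q.map (centralizer (Z : Set G)).subtype ≤ (P : Subgroup ↥L).map L.subtype := by
    rintro _ ⟨x, hx, rfl⟩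
    exact ⟨⟨x, hQ hx⟩, hP ⟨x, hx, rfl⟩, rfl⟩
  have hTC := hl.le_cent Nat.prime_three hT hQT
  refine ⟨P, ?_, ?_⟩
  · intro x hx
    rw [mem_centralizer_singleton_iff]
    exact Subtype.ext ((hz x).1 (hTC ⟨x, hx, rfl⟩))
  · intro x hx
    have h1 : (x : G) ∈ Z := hl.center_of_le hQT (by
      rintro _ ⟨y, hy, rfl⟩
      exact congrArg Subtype.val (hx y hy))
    -- `Z = ⟨z⟩`
    have h2 : zpowers (z : G) = Z := by
      refine Subgroup.eq_of_le_of_card_ge ((zpowers_le).2 hzZ) ?_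
      rw [Nat.card_zpowers, Subgroup.orderOf_coe, ho, s.cardZ]
    rw [← h2] at h1
    obtain ⟨n, hn⟩ := mem_zpowers_iff.1 h1
    exact mem_zpowers_iff.2 ⟨n, Subtype.ext (by simpa using hn)⟩

/-- The common facts. -/
theorem Sit.fac [Finite G] [(pCore 2 (↥(centralizer (Z : Set G)) ⧸ Q)).Normal] (s : Sit Z Q L)
    (hl : H261.Loc 3 Z (Q.map (centralizer (Z : Set G)).subtype)) (ht : Ab27 (TopQ Q))
    (hQ : Q ≤ NL Z L) (h12 : 3 ^ 12 ∣ Nat.card ↥(NL Z L)) (hcd : Nat.card ↥(NL Z L) ∣ 2 ^ 13 * 3 ^ 13 * 5)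
    {z : ↥L} (ho : orderOf z = 3) (hzZ : (z : G) ∈ Z)
    (hz : ∀ g : G, g ∈ centralizer (Z : Set G) ↔ g * z = z * g) : Fac ↥L z := by
  refine ⟨ho, (s.dvd_iff hl hQ 12).2 h12, ?_, ?_, ?_, s.exists_syl hl hQ ho hzZ hz⟩
  · rw [s.dvd_iff hl hQ 14]
    intro h
    have h1 := h.trans hcd
    norm_num at h1
  · intro A hA hab
    have h1 := s.card_abelian hl (s.hyp.ab27 ht) (A := A.map L.subtype) (hA.map _) (by
      rintro _ ⟨a, ha, rfl⟩ _ ⟨b, hb, rfl⟩
      rw [← map_mul, ← map_mul, hab a ha b hb])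
    rwa [Nat.card_congr (A.equivMapOfInjective _ L.subtype_injective).symm.toEquiv] at h1
  · rw [s.card_centralizer hz]
    exact hcd

/-- the image of `N` in the top section contains the derived series of the top section -/
theorem Sit.derived_top [Finite G] [(pCore 2 (↥(centralizer (Z : Set G)) ⧸ Q)).Normal] (s : Sit Z Q L) {n : ℕ}
    (hn : derivedSeries (Out ↥L) n = ⊥) : derivedSeries (TopQ Q) n ≤ (NL Z L).map (θ Q) := by
  have hLn := s.normal
  rw [← map_derivedSeries_eq (θ_surj (Q := Q)) n]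
  rintro _ ⟨x, hx, rfl⟩
  exact ⟨x, derived_le s.cent hn _ x hx, rfl⟩

/-- **Case `PSp₄(3)`.** -/
theorem Sit.facB [Finite G] [(pCore 2 (↥(centralizer (Z : Set G)) ⧸ Q)).Normal] (s : Sit Z Q L)
    (hl : H261.Loc 3 Z (Q.map (centralizer (Z : Set G)).subtype)) (ht : TopP (TopQ Q))
    (hs : Group.IsSolvable (Out ↥L)) : ∃ z : ↥L, FacB ↥L z := by
  have hLn := s.normal
  obtain ⟨n, hn⟩ := hs
  have h1 := s.derived_top hn
  -- the top section is perfect
  have hperf : ∀ n, derivedSeries (TopQ Q) n = ⊤ := by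
    have := ht.simple
    have hc : commutator (TopQ Q) = ⊤ := by
      refine ((inferInstance : (commutator (TopQ Q)).Normal).eq_bot_or_eq_top).resolve_left fun hb => ?_
      obtain ⟨a, b, hab⟩ := ht.nab
      apply hab
      have h2 : ⁅a, b⁆ ∈ commutator (TopQ Q) := by
        rw [commutator_def]
        exact Subgroup.commutator_mem_commutator (mem_top a) (mem_top b)
      rw [hb, Subgroup.mem_bot, commutatorElement_eq_one_iff_mul_comm] at h2
      exact h2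
    intro n
    induction n with
    | zero => exact derivedSeries_zero _
    | succ n ih =>
      rw [derivedSeries_succ, ih]
      rw [commutator_def] at hc
      exact hc
  rw [hperf] at h1
  have hmap : (NL Z L).map (θ Q) = ⊤ := top_le_iff.1 h1
  have hQ : Q ≤ NL Z L := by
    refine s.Q_le ?_
    by_contra hcon
    push Not at hcon
    obtain ⟨a, b, hab⟩ := ht.nab
    apply hab
    have h2 : ∀ x : TopQ Q, x = 1 := by
      intro x
      have h3 : x ∈ (NL Z L).map (θ Q) := by rw [hmap]; trivial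
      obtain ⟨m, hm, rfl⟩ := h3
      have h4 := hcon m hm
      rw [θ, MonoidHom.comp_apply]
      have : QuotientGroup.mk' Q m = 1 := (QuotientGroup.eq_one_iff m).2 h4
      rw [this, map_one]
    rw [h2 a, h2 b]
  obtain ⟨k, hk, hcard⟩ := card_N s.hyp hQ
  rw [hmap, Subgroup.card_top, ht.card] at hcard
  obtain ⟨z, ho, hzZ, hz⟩ := s.exists_z
  have e1 : Nat.card ↥(NL Z L) = 2 ^ (k + 6) * 3 ^ 13 * 5 := by
    rw [hcard, pow_add]; ring
  have e2 : Nat.card ↥(NL Z L) ∣ 2 ^ 13 * 3 ^ 13 * 5 := by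
    rw [e1]
    exact Nat.mul_dvd_mul_right (Nat.mul_dvd_mul_right (Nat.pow_dvd_pow 2 (by omega)) _) _
  have e3 : 3 ^ 13 ∣ Nat.card ↥(NL Z L) := by
    rw [e1]
    exact Dvd.intro_left (2 ^ (k + 6)) rfl |>.mul_right 5
  refine ⟨z, s.fac hl ht.ab hQ ((pow_dvd_pow 3 (by norm_num)).trans e3) e2 ho hzZ hz, (s.dvd_iff hl hQ 13).2 e3, ?_⟩
  rw [s.card_centralizer hz, e1]
  exact Nat.mul_dvd_mul_right (Nat.mul_dvd_mul_right (Nat.pow_dvd_pow 2 (by omega)) _) _

/-- the centralizer in `L` as a group -/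
def centEquiv {z : ↥L} (hz : ∀ g : G, g ∈ centralizer (Z : Set G) ↔ g * z = z * g) :
    ↥(centralizer ({z} : Set ↥L)) ≃* ↥(NL Z L) where
  toFun := fun x => ⟨⟨x.1.1, (hz _).2 (congrArg Subtype.val (mem_centralizer_singleton_iff.1 x.2))⟩, x.1.2⟩
  invFun := fun x => ⟨⟨x.1.1, x.2⟩, mem_centralizer_singleton_iff.2 (Subtype.ext ((hz _).1 x.1.2))⟩
  left_inv := fun _ => rfl
  right_inv := fun _ => rfl
  map_mul' := fun _ _ => rfl

/-- a nonabelian 3-group has order at least 27 -/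
theorem dvd_of_nonab {H : Type u} [Group H] [Finite H] (hH : IsPGroup 3 H) {a b : H} (hab : a * b ≠ b * a) :
    27 ∣ Nat.card H := by
  have : Fact (Nat.Prime 3) := ⟨Nat.prime_three⟩
  obtain ⟨n, hn⟩ := IsPGroup.iff_card.1 hH
  rw [hn]
  rcases Nat.lt_or_ge n 3 with h | h
  · exfalso
    apply hab
    interval_cases n
    · have : Subsingleton H := (Nat.card_eq_one_iff_unique.1 (by rw [hn]; norm_num)).1
      exact Subsingleton.elim _ _
    · have : IsCyclic H := isCyclic_of_prime_card (p := 3) (by rw [hn]; norm_num)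
      have h1 := IsCyclic.isMulCommutative (α := H)
      exact h1.is_comm.comm a b
    · exact (IsPGroup.isMulCommutative_of_card_eq_prime_sq (p := 3) hn).is_comm.comm a b
  · exact (show (27 : ℕ) = 3 ^ 3 by norm_num) ▸ pow_dvd_pow 3 h

/-- **Case `C_{PSp₄(3)}(x)`.** -/
theorem Sit.facF [Finite G] [(pCore 2 (↥(centralizer (Z : Set G)) ⧸ Q)).Normal] (s : Sit Z Q L)
    (hl : H261.Loc 3 Z (Q.map (centralizer (Z : Set G)).subtype)) (ht : TopT (TopQ Q))
    (hn : derivedSeries (Out ↥L) 3 = ⊥) : ∃ z : ↥L, FacF ↥L z := by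
  have : Fact (Nat.Prime 3) := ⟨Nat.prime_three⟩
  have hLn := s.normal
  have hNn := NL_normal (Z := Z) s.normal
  have h1 := s.derived_top hn
  obtain ⟨a, b, ha, hb, hab, W, hW, haW, hbW⟩ := ht.nc
  have hQ : Q ≤ NL Z L := by
    refine s.Q_le ?_
    by_contra hcon
    push Not at hcon
    apply hab
    obtain ⟨m, hm, rfl⟩ := h1 ha
    have h4 := hcon m hm
    have h5 : θ Q m = 1 := by
      rw [θ, MonoidHom.comp_apply]
      have : QuotientGroup.mk' Q m = 1 := (QuotientGroup.eq_one_iff m).2 h4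
      rw [this, map_one]
    rw [h5, one_mul, mul_one]
  obtain ⟨k, hk, hcard⟩ := card_N s.hyp hQ
  have h27 : 27 ∣ Nat.card ↥((NL Z L).map (θ Q)) := by
    have h2 : 27 ∣ Nat.card ↥(W ⊓ (NL Z L).map (θ Q)) := by
      refine dvd_of_nonab (hW.to_le inf_le_left) (a := ⟨a, haW, h1 ha⟩) (b := ⟨b, hbW, h1 hb⟩) ?_
      intro h
      exact hab (congrArg Subtype.val h)
    exact h2.trans (Subgroup.card_dvd_of_le inf_le_right)
  have h648 : Nat.card ↥((NL Z L).map (θ Q)) ∣ 648 := by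
    rw [← ht.card]
    exact Subgroup.card_subgroup_dvd_card _
  obtain ⟨z, ho, hzZ, hz⟩ := s.exists_z
  have e2 : Nat.card ↥(NL Z L) ∣ 2 ^ 10 * 3 ^ 13 := by
    rw [hcard]
    have h3 : 3 ^ 9 * 2 ^ k * Nat.card ↥((NL Z L).map (θ Q)) ∣ 3 ^ 9 * 2 ^ 7 * 648 :=
      Nat.mul_dvd_mul (Nat.mul_dvd_mul_left _ (Nat.pow_dvd_pow 2 hk)) h648
    have h4 : 3 ^ 9 * 2 ^ 7 * 648 = 2 ^ 10 * 3 ^ 13 := by norm_num
    rwa [h4] at h3
  have e3 : 3 ^ 12 ∣ Nat.card ↥(NL Z L) := by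
    rw [hcard]
    have h3 : 3 ^ 9 * 27 ∣ (3 ^ 9 * 2 ^ k) * Nat.card ↥((NL Z L).map (θ Q)) :=
      Nat.mul_dvd_mul (Dvd.intro _ rfl) h27
    have h4 : 3 ^ 9 * 27 = 3 ^ 12 := by norm_num
    rwa [h4] at h3
  have e4 : Nat.card ↥(NL Z L) ∣ 2 ^ 13 * 3 ^ 13 * 5 :=
    e2.trans (by norm_num)
  refine ⟨z, s.fac hl ht.ab hQ e3 e4 ho hzZ hz, ?_, ?_, ?_, ?_⟩
  · rw [s.card_centralizer hz]; exact e2
  · rw [s.card_centralizer hz]; exact e3
  · -- the noncommuting elements in a Sylow subgroup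
    let f : ↥(NL Z L) →* ↥((NL Z L).map (θ Q)) := (θ Q).subgroupMap (NL Z L)
    have hf : Function.Surjective f := (θ Q).subgroupMap_surjective (NL Z L)
    obtain ⟨P⟩ : Nonempty (Sylow 3 ↥(NL Z L)) := inferInstance
    -- the image is a Sylow subgroup
    let PT : Sylow 3 ↥((NL Z L).map (θ Q)) := P.mapSurjective hf
    have hWp : IsPGroup 3 ↥(W.subgroupOf ((NL Z L).map (θ Q))) := hW.comap_subtype
    obtain ⟨P', hP'⟩ := hWp.exists_le_sylow
    obtain ⟨g, hg⟩ := MulAction.exists_smul_eq ↥((NL Z L).map (θ Q)) P' PT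
    have hconj : ∀ x ∈ (P' : Subgroup ↥((NL Z L).map (θ Q))), g * x * g⁻¹ ∈ (PT : Subgroup ↥((NL Z L).map (θ Q))) := by
      intro x hx
      rw [← hg]
      exact Subgroup.smul_mem_pointwise_smul x (MulAut.conj g) (P' : Subgroup _) hx
    have haP := hconj ⟨a, h1 ha⟩ (hP' haW)
    have hbP := hconj ⟨b, h1 hb⟩ (hP' hbW)
    obtain ⟨a', ha', haf⟩ := haP
    obtain ⟨b', hb', hbf⟩ := hbP
    have hne : f a' * f b' ≠ f b' * f a' := by
      change f a' = _ at haf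
      change f b' = _ at hbf
      rw [haf, hbf]
      intro h
      apply hab
      have h5 : (⟨a, h1 ha⟩ : ↥((NL Z L).map (θ Q))) * ⟨b, h1 hb⟩ = ⟨b, h1 hb⟩ * ⟨a, h1 ha⟩ := by
        calc (⟨a, h1 ha⟩ : ↥((NL Z L).map (θ Q))) * ⟨b, h1 hb⟩ =
            g⁻¹ * ((g * ⟨a, h1 ha⟩ * g⁻¹) * (g * ⟨b, h1 hb⟩ * g⁻¹)) * g := by group
          _ = g⁻¹ * ((g * ⟨b, h1 hb⟩ * g⁻¹) * (g * ⟨a, h1 ha⟩ * g⁻¹)) * g := by rw [h]
          _ = _ := by group
      exact congrArg Subtype.val h5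
    let e := (centEquiv (L := L) hz)
    refine ⟨((P : Subgroup ↥(NL Z L)).map e.symm.toMonoidHom).map (Subgroup.subtype _), (P.isPGroup'.map _).map _, ?_,
      ((e.symm a' : ↥(centralizer ({z} : Set ↥L))) : ↥L), ⟨_, ⟨a', ha', rfl⟩, rfl⟩,
      ((e.symm b' : ↥(centralizer ({z} : Set ↥L))) : ↥L), ⟨_, ⟨b', hb', rfl⟩, rfl⟩, ?_⟩
    · rintro _ ⟨x, -, rfl⟩
      exact x.2
    · intro N hN hNC hNn' hmem
      apply hne
      -- `N` as a normal subgroup of `NL`
      let N1 : Subgroup ↥(NL Z L) := (N.subgroupOf (centralizer ({z} : Set ↥L))).map e.toMonoidHom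
      have hN1 : IsPGroup 3 ↥N1 := (hN.comap_subtype).map _
      have hNs : (N.subgroupOf (centralizer ({z} : Set ↥L))).Normal := ⟨by
        intro x hx y
        rw [mem_subgroupOf] at hx ⊢
        exact (mem_normalizer_iff.1 (hNn' y.2) _).1 hx⟩
      have hN1n : N1.Normal := hNs.map _ e.surjective
      have h6 := Cfsg.Agent.Lib.Cores.le_pCore hN1n hN1
      have h7 := Cfsg.Agent.Lib.Cores.map_subtype_pCore 3 hNn
      have h8 : pCore 3 ↥(centralizer (Z : Set G)) ≤ Q :=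
        s.hyp.le_of_isPGroup (Cfsg.Agent.Lib.Cores.pCore_normal 3) (Cfsg.Agent.Lib.Cores.pCore_isPGroup 3)
      have h9 : ∀ x ∈ N1, f x = 1 := by
        intro x hx
        have h10 : (x : ↥(centralizer (Z : Set G))) ∈ (pCore 3 ↥(NL Z L)).map (NL Z L).subtype := ⟨x, h6 hx, rfl⟩
        rw [h7] at h10
        have h11 := h8 h10.2
        apply Subtype.ext
        change θ Q (x : ↥(centralizer (Z : Set G))) = 1
        rw [θ, MonoidHom.comp_apply]
        have : QuotientGroup.mk' Q (x : ↥(centralizer (Z : Set G))) = 1 := (QuotientGroup.eq_one_iff _).2 h11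
        rw [this, map_one]
      have h12 : ⁅a', b'⁆ ∈ N1 := by
        refine ⟨⁅e.symm a', e.symm b'⁆, ?_, ?_⟩
        · exact hmem
        · change e ⁅e.symm a', e.symm b'⁆ = ⁅a', b'⁆
          rw [map_commutatorElement, e.apply_symm_apply, e.apply_symm_apply]
      have h13 := h9 _ h12
      rw [map_commutatorElement, commutatorElement_eq_one_iff_mul_comm] at h13
      exact h13
  · intro h13
    by_contra hno
    apply h13
    rw [s.dvd_iff hl hQ 13]
    -- `|M| = |N| |range|`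
    have h2 := Subgroup.card_mul_index ((toOut L).comp (centralizer (Z : Set G)).subtype).ker
    rw [Subgroup.index_ker] at h2
    have h3 : ((toOut L).comp (centralizer (Z : Set G)).subtype).ker = NL Z L := by
      ext m
      rw [MonoidHom.mem_ker, MonoidHom.comp_apply, mem_NL]
      exact toOut_ker s.cent
    rw [h3, card_M s.hyp, ht.card] at h2
    have h4 : ¬ 3 ∣ Nat.card ↥((toOut L).comp (centralizer (Z : Set G)).subtype).range := fun h =>
      hno (h.trans (Subgroup.card_subgroup_dvd_card _))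
    have h5 : (3 ^ 13).Coprime (Nat.card ↥((toOut L).comp (centralizer (Z : Set G)).subtype).range) :=
      Nat.Coprime.pow_left 13 ((Nat.Prime.coprime_iff_not_dvd Nat.prime_three).2 h4)
    refine h5.dvd_of_dvd_mul_right ?_
    rw [h2]
    norm_num

end Cfsg.Agent.H243
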