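import Mathlib
import Cfsg.Agent.ChevalleyStructure.TwistedF4Perfect
import Cfsg.Agent.ChevalleyStructure.SL2Hom
import Cfsg.Agent.ChevalleyStructure.SL2TabSmall
import Cfsg.Agent.TwoFusion.SLTwoFacts
import Cfsg.Agent.S2475
import Cfsg.Agent.S0802
import Cfsg.Agent.S1024

/-!
# Elements of `²F₄(q)` of order dividing `q + 1` (helper243)

`SL₂(q)` embeds in `²F₄(q)`.
-/

set_option autoImplicit false

namespace Cfsg.Agent.H243.TwFRow

open Subgroup Cfsg Cfsg.Lie Cfsg.Agent.ChevalleyStructure.SL2Hom Cfsg.Agent.ChevalleyStructure.SL2Check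
  Cfsg.Agent.ChevalleyStructure.SL2TabSmall Cfsg.Agent.ChevalleyStructure.TwistedF4Perfect
open Cfsg.Agent.ChevalleyStructure.SL2Rep (Good)

theorem good33 : Good chevF4 33 := good_of_generalCheck (basic_of_check basicF4) generalF4 33 (by decide)

theorem good24 : Good chevF4 24 := good_of_generalCheck (basic_of_check basicF4) generalF4 24 (by decide)

variable {K : Type*} [Field K] [CharP K 2]

theorem phi33_up (t : K) : phi good33 K (up t) = xG 33 t := Units.ext (phi_upper good33 _ t rfl)

theorem phi24_up (t : K) : phi good24 K (up t) = xG 24 t := Units.ext (phi_upper good24 _ t rfl)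

theorem phi33_lo (t : K) : phi good33 K (lo t) = xG 14 t := Units.ext (phi_lower good33 _ t rfl)

theorem phi24_lo (t : K) : phi good24 K (lo t) = xG 23 t := Units.ext (phi_lower good24 _ t rfl)

theorem comm_phi (A B : Matrix.SpecialLinearGroup (Fin 2) K) : phi good33 K A * phi good24 K B = phi good24 K B * phi good33 K A := by
  have h1 : ∀ (r s : ℕ), (r = 33 ∨ r = 14) → (s = 24 ∨ s = 23) → ∀ a b : K, xG r a * xG s b = xG s b * xG r a := by
    rintro r s (rfl | rfl) (rfl | rfl) a b
    · exact comm_of (p := (33, 24)) (by decide) a b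
    · exact comm_of (p := (33, 23)) (by decide) a b
    · exact comm_of (p := (14, 24)) (by decide) a b
    · exact comm_of (p := (14, 23)) (by decide) a b
  -- `phi24 B` commutes with the generators
  have h2 : ∀ B : Matrix.SpecialLinearGroup (Fin 2) K, ∀ r, (r = 33 ∨ r = 14) → ∀ a : K,
      xG r a * phi good24 K B = phi good24 K B * xG r a := by
    intro B r hr a
    have h3 : closure (Set.range (up (F := K)) ∪ Set.range (lo (F := K))) ≤
        (centralizer ({xG r a} : Set (GL chevF4.Idx K))).comap (phi good24 K) := by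
      rw [closure_le]
      rintro _ (⟨t, rfl⟩ | ⟨t, rfl⟩)
      · change phi good24 K (up t) ∈ centralizer _
        rw [phi24_up, mem_centralizer_singleton_iff]
        exact (h1 r 24 hr (Or.inl rfl) a t).symm
      · change phi good24 K (lo t) ∈ centralizer _
        rw [phi24_lo, mem_centralizer_singleton_iff]
        exact (h1 r 23 hr (Or.inr rfl) a t).symm
    exact (mem_centralizer_singleton_iff.1 (h3 (mem_closure_SL2 B))).symm
  have h3 : closure (Set.range (up (F := K)) ∪ Set.range (lo (F := K))) ≤
      (centralizer ({phi good24 K B} : Set (GL chevF4.Idx K))).comap (phi good33 K) := by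
    rw [closure_le]
    rintro _ (⟨t, rfl⟩ | ⟨t, rfl⟩)
    · change phi good33 K (up t) ∈ centralizer _
      rw [phi33_up, mem_centralizer_singleton_iff]
      exact h2 B 33 (Or.inl rfl) t
    · change phi good33 K (lo t) ∈ centralizer _
      rw [phi33_lo, mem_centralizer_singleton_iff]
      exact h2 B 14 (Or.inr rfl) t
  exact mem_centralizer_singleton_iff.1 (h3 (mem_closure_SL2 A))

/-- the embedding -/
noncomputable def psi (σ : K →+* K) : Matrix.SpecialLinearGroup (Fin 2) K →* GL chevF4.Idx K where
  toFun A := phi good33 K (A.map σ) * phi good24 K A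
  map_one' := by rw [map_one, map_one, map_one, mul_one]
  map_mul' A B := by
    rw [map_mul, map_mul, map_mul]
    calc phi good33 K (A.map σ) * phi good33 K (B.map σ) * (phi good24 K A * phi good24 K B)
        = phi good33 K (A.map σ) * (phi good33 K (B.map σ) * phi good24 K A) * phi good24 K B := by group
      _ = phi good33 K (A.map σ) * (phi good24 K A * phi good33 K (B.map σ)) * phi good24 K B := by rw [comm_phi]
      _ = _ := by group

omit [CharP K 2] in
theorem map_up (σ : K →+* K) (t : K) : (up t).map σ = up (σ t) := by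
  apply Subtype.ext
  ext i j
  rw [Matrix.SpecialLinearGroup.map_apply_coe]
  fin_cases i <;> fin_cases j
  · exact map_one σ
  · rfl
  · exact map_zero σ
  · exact map_one σ

omit [CharP K 2] in
theorem map_lo (σ : K →+* K) (t : K) : (lo t).map σ = lo (σ t) := by
  apply Subtype.ext
  ext i j
  rw [Matrix.SpecialLinearGroup.map_apply_coe]
  fin_cases i <;> fin_cases j
  · exact map_one σ
  · exact map_zero σ
  · rfl
  · exact map_one σ

theorem psi_mem {e : ℕ} (σ : K →+* K) (hσ : ∀ t, σ t = t ^ e) (A : Matrix.SpecialLinearGroup (Fin 2) K) :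
    psi σ A ∈ twistedF4 K e := by
  have h3 : closure (Set.range (up (F := K)) ∪ Set.range (lo (F := K))) ≤ (twistedF4 K e).comap (psi σ) := by
    rw [closure_le]
    rintro _ (⟨t, rfl⟩ | ⟨t, rfl⟩)
    · change phi good33 K ((up t).map σ) * phi good24 K (up t) ∈ twistedF4 K e
      rw [map_up, phi33_up, phi24_up, hσ]
      have := mem_of_word e (f4PairWord e f4p1 f4p4 t) (Or.inl ⟨t, Or.inl rfl⟩)
      unfold f4PairWord at this
      rw [wG_cons, wG_cons, wG_nil, mul_one] at this
      exact this
    · change phi good33 K ((lo t).map σ) * phi good24 K (lo t) ∈ twistedF4 K e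
      rw [map_lo, phi33_lo, phi24_lo, hσ]
      have := mem_of_word e (f4PairWord e f4m1 f4m4 t) (Or.inl ⟨t, Or.inr rfl⟩)
      unfold f4PairWord at this
      rw [wG_cons, wG_cons, wG_nil, mul_one] at this
      exact this
  exact h3 (mem_closure_SL2 A)

/-- `SL₂(K)` is simple -/
theorem normal_sl [Fintype K] (h : 3 < Fintype.card K) (N : Subgroup (Matrix.SpecialLinearGroup (Fin 2) K)) [N.Normal] :
    N = ⊥ ∨ N = ⊤ := by
  have h1 := Cfsg.Agent.TwoFusion.SLTwoFacts.isSimpleGroup_psl h
  have hc : center (Matrix.SpecialLinearGroup (Fin 2) K) = ⊥ := Cfsg.Agent.S0802.center_eq_bot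
  let π := QuotientGroup.mk' (center (Matrix.SpecialLinearGroup (Fin 2) K))
  have hπ : Function.Injective π := by
    rw [← MonoidHom.ker_eq_bot_iff, QuotientGroup.ker_mk', hc]
  have hπ' : Function.Surjective π := QuotientGroup.mk'_surjective _
  have h2 : (N.map π).Normal := Subgroup.Normal.map inferInstance π hπ'
  rcases h1.eq_bot_or_eq_top_of_normal (N.map π) h2 with h3 | h3
  · left
    exact (Subgroup.map_eq_bot_iff_of_injective N hπ).1 h3
  · right
    rw [eq_top_iff]
    intro x _
    have h4 : π x ∈ N.map π := by rw [h3]; exact mem_top _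
    obtain ⟨y, hy, hxy⟩ := h4
    rw [← hπ hxy]
    exact hy

theorem psi_injective [Fintype K] (h : 3 < Fintype.card K) (σ : K →+* K) : Function.Injective (psi σ) := by
  rw [← MonoidHom.ker_eq_bot_iff]
  rcases normal_sl h (psi σ).ker with h1 | h1
  · exact h1
  · exfalso
    -- `phi24` has abelian image
    have h2 : ∀ A, phi good33 K (A.map σ) * phi good24 K A = 1 := by
      intro A
      have : A ∈ (psi σ).ker := by rw [h1]; exact mem_top _
      exact this
    have h3 : ∀ A B : Matrix.SpecialLinearGroup (Fin 2) K, phi good24 K A * phi good24 K B = phi good24 K B * phi good24 K A := by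
      intro A B
      have h4 : phi good24 K A = (phi good33 K (A.map σ))⁻¹ := (inv_eq_of_mul_eq_one_right (h2 A)).symm
      rw [h4, ← map_inv, ← map_inv, comm_phi]
    have h5 : (phi good24 K).ker = ⊤ := by
      rcases normal_sl h (phi good24 K).ker with h6 | h6
      · exfalso
        rw [MonoidHom.ker_eq_bot_iff] at h6
        have h7 : up (1 : K) * lo 1 = lo 1 * up 1 := h6 (by rw [map_mul, map_mul, h3])
        have h8 := congrArg (fun A : Matrix.SpecialLinearGroup (Fin 2) K => (A : Matrix (Fin 2) (Fin 2) K) 0 0) h7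
        change ((up (1 : K)).1 * (lo (1 : K)).1) 0 0 = ((lo (1 : K)).1 * (up (1 : K)).1) 0 0 at h8
        simp [up, lo, Matrix.mul_apply, Fin.sum_univ_two] at h8
      · exact h6
    have h6 : phi good24 K (up 1) = 1 := by
      have : up (1 : K) ∈ (phi good24 K).ker := by rw [h5]; exact mem_top _
      exact this
    rw [phi24_up] at h6
    have h7 : chevF4.x K 24 1 = 1 := by
      have := congrArg (fun g : GL chevF4.Idx K => (g : Matrix chevF4.Idx chevF4.Idx K)) h6
      exact this
    rw [Cfsg.Agent.S1024.result chevF4 (by simp) 24 (by decide)] at h7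
    exact one_ne_zero h7

/-- **An element of `²F₄(q)` of any order dividing `q + 1`.** -/
theorem exists_elt {F : Type*} [Field F] [Fintype F] {m : ℕ} (hm : 1 ≤ m) (hF : Fintype.card F = 2 ^ (2 * m + 1)) {d : ℕ}
    (hd : d ∣ Fintype.card F + 1) : ∃ x : ↥(twistedF4 F (2 ^ m)), orderOf x = d := by
  have : CharP F 2 := charP_two hF
  have : Fact (Nat.Prime 2) := ⟨Nat.prime_two⟩
  have h8 : 8 ≤ Fintype.card F := by
    rw [hF]
    calc 8 = 2 ^ 3 := by norm_num
      _ ≤ 2 ^ (2 * m + 1) := Nat.pow_le_pow_right (by norm_num) (by omega)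
  -- an element of `PSL₂`
  have hg : Nat.gcd 2 (Fintype.card F - 1) = 1 := by
    rw [← Nat.coprime_iff_gcd_eq_one, Nat.coprime_two_left]
    have h2 : Even (Fintype.card F) := by rw [hF]; exact (Nat.even_pow.2 ⟨even_two, by omega⟩)
    obtain ⟨k, hk⟩ := h2
    exact ⟨k - 1, by omega⟩
  have h1 := Cfsg.Agent.S2475.result (F := F) 2 (by omega)
  have h2 : d ∈ Set.range (orderOf : Matrix.ProjectiveSpecialLinearGroup (Fin 2) F → ℕ) := by
    rw [h1]
    right; right
    rw [hg, Nat.div_one]
    exact hd
  obtain ⟨y, hy⟩ := h2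
  obtain ⟨A, rfl⟩ := QuotientGroup.mk'_surjective (center (Matrix.SpecialLinearGroup (Fin 2) F)) y
  have hc : center (Matrix.SpecialLinearGroup (Fin 2) F) = ⊥ := Cfsg.Agent.S0802.center_eq_bot
  have hπ : Function.Injective (QuotientGroup.mk' (center (Matrix.SpecialLinearGroup (Fin 2) F))) := by
    rw [← MonoidHom.ker_eq_bot_iff, QuotientGroup.ker_mk', hc]
  rw [orderOf_injective _ hπ] at hy
  let σ : F →+* F := iterateFrobenius F 2 m
  have hσ : ∀ t, σ t = t ^ 2 ^ m := fun t => iterateFrobenius_def 2 m t
  refine ⟨⟨psi σ A, psi_mem σ hσ A⟩, ?_⟩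
  rw [← Subgroup.orderOf_coe]
  change orderOf (psi σ A) = d
  rw [orderOf_injective _ (psi_injective (by omega) σ)]
  exact hy

end Cfsg.Agent.H243.TwFRow
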