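import Mathlib
import Cfsg.Agent.H243.Fac
import Cfsg.Agent.H243.Arith
import Cfsg.Agent.H243.TwFRow
import Cfsg.Agent.H261.ExcThreeTw
import Cfsg.Agent.H261.ExcThreeE78
import Cfsg.Agent.OrdDiv.Main

/-!
# The exceptional groups in characteristic different from 3, and the sporadic groups (helper243)
-/

set_option autoImplicit false

namespace Cfsg.Agent.H243.ExcRow

open Subgroup Cfsg Cfsg.Lie

universe u

theorem cent_card {K K' : Type*} [Group K] [Group K'] (e : K ≃* K') (z : K) :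
    Nat.card ↥(centralizer ({z} : Set K)) = Nat.card ↥(centralizer ({e z} : Set K')) := by
  refine Nat.card_congr ?_
  exact
    { toFun := fun x => ⟨e x, mem_centralizer_singleton_iff.2 (by
        rw [← map_mul, ← map_mul, mem_centralizer_singleton_iff.1 x.2])⟩
      invFun := fun x => ⟨e.symm x, mem_centralizer_singleton_iff.2 (by
        apply e.injective
        rw [map_mul, map_mul, e.apply_symm_apply, mem_centralizer_singleton_iff.1 x.2])⟩
      left_inv := fun x => Subtype.ext (e.symm_apply_apply x)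
      right_inv := fun x => Subtype.ext (e.apply_symm_apply x) }

/-- the arithmetic facts -/
structure Nf (K : Type*) [Group K] (z : K) : Prop where
  z3 : z ^ 3 = 1
  d12 : 3 ^ 12 ∣ Nat.card K
  cd : Nat.card ↥(centralizer ({z} : Set K)) ∣ 2 ^ 13 * 3 ^ 13 * 5

theorem Nf.congr {K K' : Type*} [Group K] [Group K'] {z : K} (h : Nf K z) (e : K ≃* K') : Nf K' (e z) where
  z3 := by rw [← map_pow, h.z3, map_one]
  d12 := by rw [← Nat.card_congr e.toEquiv]; exact h.d12
  cd := by rw [← cent_card e z]; exact h.cd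

theorem nf {K : Type u} [Group K] {z : K} (h : Fac K z) : Nf K z where
  z3 := by rw [← h.ord]; exact pow_orderOf_eq_one z
  d12 := h.d12
  cd := h.cd

theorem exists_char (F : Type) [Field F] [Fintype F] (h3 : ¬ 3 ∣ Fintype.card F) :
    ∃ r e : ℕ, Fact r.Prime ∧ CharP F r ∧ r ≠ 3 ∧ 1 ≤ e ∧ Fintype.card F = r ^ e := by
  obtain ⟨r, hr⟩ := CharP.exists F
  have hr' : Fact r.Prime := ⟨CharP.char_is_prime F r⟩
  obtain ⟨e, -, he⟩ := FiniteField.card F r
  refine ⟨r, e, hr', hr, ?_, e.2, he⟩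
  rintro rfl
  exact h3 (he ▸ dvd_pow_self 3 e.2.ne')

theorem small {F : Type} [Field F] [Fintype F] {K : Type*} [Group K] {z : K} (h : Nf K z) {r e N : ℕ} [hr : Fact r.Prime]
    (hr3 : r ≠ 3) (he : 1 ≤ e) (hN : 1 ≤ N) (hF : Fintype.card F = r ^ e)
    (hd : Nat.card F ^ N ∣ Nat.card ↥(centralizer ({z} : Set K))) : (r = 2 ∧ e * N ≤ 13) ∨ (r = 5 ∧ e * N = 1) := by
  rw [Nat.card_eq_fintype_card, hF] at hd
  exact Arith.small hr.out hr3 (Nat.mul_pos he hN) hd h.cd

variable (T : OrdDiv.OrderTable.{u})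

section
include T

theorem g2 (F : Type) [Field F] [Fintype F] (h3 : ¬ 3 ∣ Fintype.card F) (z : ↥(chevG2.group F)) (h : Nf _ z) : False := by
  obtain ⟨r, e, hr, hc, hr3, he, hF⟩ := exists_char F h3
  have hd : Nat.card F ^ 1 ∣ Nat.card ↥(centralizer ({z} : Set ↥(chevG2.group F))) := by
    rw [pow_one]; exact H261.pow_dvd_G2 F hr3 z h.z3
  have h12 := h.d12
  rw [T.g2 F, hF] at h12
  rcases small h hr3 he le_rfl hF hd with ⟨rfl, h1⟩ | ⟨rfl, h1⟩
  · rcases Arith.g2 e (by omega) with h2 | h2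
    · exact h2 h12
    · omega
  · obtain rfl : e = 1 := by omega
    rw [pow_one] at h12
    exact Arith.g2' h12

theorem f4 (F : Type) [Field F] [Fintype F] (h3 : ¬ 3 ∣ Fintype.card F) (z : ↥(chevF4.group F)) (h : Nf _ z) : False := by
  obtain ⟨r, e, hr, hc, hr3, he, hF⟩ := exists_char F h3
  have hd := H261.pow_dvd_F4 F hr3 z h.z3
  have h12 := h.d12
  rw [T.f4 F _ hF] at h12
  rcases small h hr3 he (by norm_num) hF hd with ⟨rfl, h1⟩ | ⟨rfl, h1⟩
  · have h2 : e = 1 ∨ e = 2 := by omega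
    rcases h2 with rfl | rfl
    · exact Arith.f4 (2 ^ 1) (by simp) h12
    · exact Arith.f4 (2 ^ 2) (by simp) h12
  · omega

theorem e6 (F : Type) [Field F] [Fintype F] (h3 : ¬ 3 ∣ Fintype.card F) (z : ↥(chevE6.group F)) (h : Nf _ z) : False := by
  obtain ⟨r, e, hr, hc, hr3, he, hF⟩ := exists_char F h3
  have hd := H261.pow_dvd_E6 F hr3 z h.z3
  have h12 := h.d12
  have ho := T.e6 F _ hF
  have h12' := ho ▸ (Dvd.dvd.mul_left h12 (Nat.gcd 3 (r ^ e - 1)))
  rcases small h hr3 he (by norm_num) hF hd with ⟨rfl, h1⟩ | ⟨rfl, h1⟩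
  · obtain rfl : e = 1 := by omega
    exact Arith.e6 h12'
  · omega

omit T in
theorem e7 (F : Type) [Field F] [Fintype F] (h3 : ¬ 3 ∣ Fintype.card F) (z : ↥(chevE7.group F)) (h : Nf _ z) : False := by
  obtain ⟨r, e, hr, hc, hr3, he, hF⟩ := exists_char F h3
  have hd := H261.pow_dvd_E7 F hr3 z h.z3
  rcases small h hr3 he (by norm_num) hF hd with ⟨rfl, h1⟩ | ⟨rfl, h1⟩ <;> omega

omit T in
theorem e8 (F : Type) [Field F] [Fintype F] (h3 : ¬ 3 ∣ Fintype.card F) (z : ↥(chevE8.group F)) (h : Nf _ z) : False := by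
  obtain ⟨r, e, hr, hc, hr3, he, hF⟩ := exists_char F h3
  have hd := H261.pow_dvd_E8 F hr3 z h.z3
  rcases small h hr3 he (by norm_num) hF hd with ⟨rfl, h1⟩ | ⟨rfl, h1⟩ <;> omega

omit T in
/-- the parameters of the twisted groups -/
theorem exists_tw (F : Type) [Field F] [Fintype F] {q n : ℕ} (hn : n ≠ 0) (hq : IsPrimePow q) (hF : Fintype.card F = q ^ n)
    (h3 : ¬ 3 ∣ q) : ∃ r e : ℕ, Fact r.Prime ∧ CharP F r ∧ r ≠ 3 ∧ 0 < e ∧ q = r ^ e := by
  obtain ⟨r, e, hr, he, rfl⟩ := (isPrimePow_nat_iff _).1 hq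
  have hr' : Fact r.Prime := ⟨hr⟩
  refine ⟨r, e, hr', ?_, ?_, he, rfl⟩
  · obtain ⟨s, hs⟩ := CharP.exists F
    have hs' : s.Prime := CharP.char_is_prime F s
    obtain ⟨k, -, hk⟩ := FiniteField.card F s
    rw [hF, ← pow_mul] at hk
    have h1 : r ∣ s ^ (k : ℕ) := hk ▸ dvd_pow_self r (Nat.mul_ne_zero he.ne' hn)
    have h2 : r = s := (Nat.prime_dvd_prime_iff_eq hr hs').1 (hr.dvd_of_dvd_pow h1)
    rw [h2]; exact hs
  · rintro rfl
    exact h3 (dvd_pow_self 3 he.ne')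

theorem te6 (F : Type) [Field F] [Fintype F] {q : ℕ} (hq : IsPrimePow q) (hF : Fintype.card F = q ^ 2) (h3 : ¬ 3 ∣ q)
    (z : ↥(twistedE6 F q)) (h : Nf _ z) : False := by
  obtain ⟨r, e, hr, hc, hr3, he, rfl⟩ := exists_tw F two_ne_zero hq hF h3
  have hd := H261.Tw.pow_dvd_twE6 F hr3 he rfl hF z h.z3
  have ho := T.te6 F _ hq hF
  have h12' := ho ▸ (Dvd.dvd.mul_left h.d12 (Nat.gcd 3 (r ^ e + 1)))
  rcases Arith.small hr.out hr3 (by omega) hd h.cd with ⟨rfl, h1⟩ | ⟨rfl, h1⟩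
  · obtain rfl : e = 1 := by omega
    exact Arith.te6 h12'
  · omega

theorem td4 (F : Type) [Field F] [Fintype F] {q : ℕ} (hq : IsPrimePow q) (hF : Fintype.card F = q ^ 3) (h3 : ¬ 3 ∣ q)
    (z : ↥(twistedD4 F q)) (h : Nf _ z) : False := by
  obtain ⟨r, e, hr, hc, hr3, he, rfl⟩ := exists_tw F three_ne_zero hq hF h3
  have hd := H261.Tw.pow_dvd_twD4 F hr3 he rfl hF z h.z3
  have h12 := h.d12
  rw [T.td4 F _ hq hF] at h12
  rcases Arith.small hr.out hr3 (by omega) hd h.cd with ⟨rfl, h1⟩ | ⟨rfl, h1⟩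
  · have h2 : e = 1 ∨ e = 2 ∨ e = 3 ∨ e = 4 := by omega
    rcases h2 with rfl | rfl | rfl | rfl
    · exact Arith.td4 (2 ^ 1) (by simp) h12
    · exact Arith.td4 (2 ^ 2) (by simp) h12
    · exact Arith.td4 (2 ^ 3) (by simp) h12
    · exact Arith.td4 (2 ^ 4) (by simp) h12
  · omega

theorem sz (F : Type) [Field F] [Fintype F] {m : ℕ} (hm : 1 ≤ m) (hF : Fintype.card F = 2 ^ (2 * m + 1))
    (z : ↥(Lie.Sz F (2 ^ (m + 1)))) (h : Nf _ z) : False := by
  have h12 := h.d12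
  rw [T.sz F m hm hF] at h12
  exact Arith.sz ((dvd_pow_self 3 (by norm_num)).trans h12)

theorem tf4 (F : Type) [Field F] [Fintype F] {m : ℕ} (hm : 1 ≤ m) (hF : Fintype.card F = 2 ^ (2 * m + 1))
    (z : ↥(twistedF4 F (2 ^ m))) (h : Nf _ z)
    (hexp : ∀ (x : ↥(twistedF4 F (2 ^ m))) (n : ℕ), x ^ 3 ^ n = 1 → x ^ 81 = 1) : False := by
  have h12 := h.d12
  rw [T.tf4 F m hm hF] at h12
  have h6 := Arith.tf4 h12
  obtain ⟨x, hx⟩ := TwFRow.exists_elt hm hF (d := 3 ^ 6) (by rw [hF]; exact h6)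
  have h1 := hexp x 6 (by rw [← hx]; exact pow_orderOf_eq_one x)
  have h2 := orderOf_dvd_of_pow_eq_one h1
  rw [hx] at h2
  norm_num at h2

end

/-- The groups of exceptional Lie type in characteristic 3. -/
def Exc3 (K : Type u) [Group K] : Prop :=
  (∃ (F : Type) (_ : Field F) (_ : Fintype F), 3 ∣ Fintype.card F ∧ (Nonempty (K ≃* ↥(chevG2.group F)) ∨
    Nonempty (K ≃* ↥(chevF4.group F)) ∨ Nonempty (K ≃* ↥(chevE6.group F)) ∨ Nonempty (K ≃* ↥(chevE7.group F)) ∨
    Nonempty (K ≃* ↥(chevE8.group F)))) ∨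
  (∃ (F : Type) (_ : Field F) (_ : Fintype F) (q : ℕ), IsPrimePow q ∧ Fintype.card F = q ^ 2 ∧ 3 ∣ q ∧
    Nonempty (K ≃* ↥(twistedE6 F q))) ∨
  (∃ (F : Type) (_ : Field F) (_ : Fintype F) (q : ℕ), IsPrimePow q ∧ Fintype.card F = q ^ 3 ∧ 3 ∣ q ∧
    Nonempty (K ≃* ↥(twistedD4 F q))) ∨ IsoRee K

/-- **The exceptional groups**: only characteristic 3 and the Tits group are left. -/
theorem exc (T : OrdDiv.OrderTable.{u}) {K : Type u} [Group K] {z : K} (h0 : Fac K z)
    (hexp : ∀ (x : K) (n : ℕ), x ^ 3 ^ n = 1 → x ^ 81 = 1) (hK : IsExceptionalLieType K) : Exc3 K ∨ IsoTits K := by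
  have h := nf h0
  rcases hK with hK | hK | hK | hK | hK | hK | hK | hK | hK | hK | hK
  · obtain ⟨F, _, _, -, ⟨e⟩⟩ := hK
    by_cases h3 : 3 ∣ Fintype.card F
    · exact Or.inl (Or.inl ⟨F, inferInstance, inferInstance, h3, Or.inl ⟨e⟩⟩)
    · exact (g2 T F h3 _ (h.congr e)).elim
  · obtain ⟨F, _, _, ⟨e⟩⟩ := hK
    by_cases h3 : 3 ∣ Fintype.card F
    · exact Or.inl (Or.inl ⟨F, inferInstance, inferInstance, h3, Or.inr (Or.inl ⟨e⟩)⟩)
    · exact (f4 T F h3 _ (h.congr e)).elim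
  · obtain ⟨F, _, _, ⟨e⟩⟩ := hK
    by_cases h3 : 3 ∣ Fintype.card F
    · exact Or.inl (Or.inl ⟨F, inferInstance, inferInstance, h3, Or.inr (Or.inr (Or.inl ⟨e⟩))⟩)
    · exact (e6 T F h3 _ (h.congr e)).elim
  · obtain ⟨F, _, _, ⟨e⟩⟩ := hK
    by_cases h3 : 3 ∣ Fintype.card F
    · exact Or.inl (Or.inl ⟨F, inferInstance, inferInstance, h3, Or.inr (Or.inr (Or.inr (Or.inl ⟨e⟩)))⟩)
    · exact (e7 F h3 _ (h.congr e)).elim
  · obtain ⟨F, _, _, ⟨e⟩⟩ := hK
    by_cases h3 : 3 ∣ Fintype.card F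
    · exact Or.inl (Or.inl ⟨F, inferInstance, inferInstance, h3, Or.inr (Or.inr (Or.inr (Or.inr ⟨e⟩)))⟩)
    · exact (e8 F h3 _ (h.congr e)).elim
  · obtain ⟨F, _, _, q, hq, hF, ⟨e⟩⟩ := hK
    by_cases h3 : 3 ∣ q
    · exact Or.inl (Or.inr (Or.inl ⟨F, inferInstance, inferInstance, q, hq, hF, h3, ⟨e⟩⟩))
    · exact (te6 T F hq hF h3 _ (h.congr e)).elim
  · obtain ⟨F, _, _, q, hq, hF, ⟨e⟩⟩ := hK
    by_cases h3 : 3 ∣ q
    · exact Or.inl (Or.inr (Or.inr (Or.inl ⟨F, inferInstance, inferInstance, q, hq, hF, h3, ⟨e⟩⟩)))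
    · exact (td4 T F hq hF h3 _ (h.congr e)).elim
  · obtain ⟨F, _, _, m, hm, hF, ⟨e⟩⟩ := hK
    exact (sz T F hm hF _ (h.congr e)).elim
  · exact Or.inl (Or.inr (Or.inr (Or.inr hK)))
  · obtain ⟨F, _, _, m, hm, hF, ⟨e⟩⟩ := hK
    exact (tf4 T F hm hF _ (h.congr e) (fun x n hx => by
      have h1 := hexp (e.symm x) n (by rw [← map_pow, hx, map_one])
      rw [← map_pow] at h1
      exact (map_eq_one_iff _ e.symm.injective).1 h1)).elim
  · exact Or.inr hK

/-! ### sporadic groups -/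

theorem list_spor : ∀ x ∈ OrdDiv.spor, 3 ^ 12 ∣ x.2 → ¬ 3 ^ 14 ∣ x.2 → x.1 = .fi23 ∨ x.1 = .b := by decide +kernel

/-- **The sporadic groups and the Tits group.** -/
theorem spor (T : OrdDiv.OrderTable.{u}) {K : Type u} [Group K] {z : K} (h : Fac K z)
    (hK : IsSporadicGroup K ∨ IsoTits K) : Spor.IsoFi23 K ∨ Spor.IsoB K := by
  have key : ∀ (g : OrdDiv.Grp), g ∈ OrdDiv.spor.map (fun x => x.1) → OrdDiv.Real g K → g = .fi23 ∨ g = .b := fun g hg hr => by
    obtain ⟨x, hx, rfl⟩ := List.mem_map.1 hg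
    have h1 := T.spor K x hx hr
    exact list_spor x hx (h1 ▸ h.d12) (h1 ▸ h.n14)
  rcases hK with hK | hK
  · rcases hK with h | h | h | h | h | h | h | h | h | h | h | h | h | h | h | h | h | h | h | h | h | h | h | h | h | h
    · exact absurd (key .m11 (by decide) h) (by decide)
    · exact absurd (key .m12 (by decide) h) (by decide)
    · exact absurd (key .m22 (by decide) h) (by decide)
    · exact absurd (key .m23 (by decide) h) (by decide)
    · exact absurd (key .m24 (by decide) h) (by decide)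
    · exact absurd (key .j1 (by decide) h) (by decide)
    · exact absurd (key .j2 (by decide) h) (by decide)
    · exact absurd (key .j3 (by decide) h) (by decide)
    · exact absurd (key .j4 (by decide) h) (by decide)
    · exact absurd (key .co1 (by decide) h) (by decide)
    · exact absurd (key .co2 (by decide) h) (by decide)
    · exact absurd (key .co3 (by decide) h) (by decide)
    · exact absurd (key .mcl (by decide) h) (by decide)
    · exact absurd (key .hs (by decide) h) (by decide)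
    · exact absurd (key .suz (by decide) h) (by decide)
    · exact absurd (key .he (by decide) h) (by decide)
    · exact absurd (key .ru (by decide) h) (by decide)
    · exact absurd (key .on (by decide) h) (by decide)
    · exact absurd (key .ly (by decide) h) (by decide)
    · exact absurd (key .fi22 (by decide) h) (by decide)
    · exact Or.inl h
    · exact absurd (key .fi24 (by decide) h) (by decide)
    · exact absurd (key .hn (by decide) h) (by decide)
    · exact absurd (key .th (by decide) h) (by decide)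
    · exact Or.inr h
    · exact absurd (key .m (by decide) h) (by decide)
  · exact absurd (key .tits (by decide) hK) (by decide)

end Cfsg.Agent.H243.ExcRow
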