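import Mathlib
import Cfsg.Agent.H243.Facts

/-!
# The 3-elements of `G` have order at most 81 (helper243)
-/

set_option autoImplicit false

namespace Cfsg.Agent.H243

open Subgroup Cfsg
open scoped commutatorElement

universe u

variable {G : Type u} [Group G] {Z : Subgroup G} {Q : Subgroup ↥(centralizer (Z : Set G))} [Q.Normal] {L : Subgroup G}

theorem Sit.exp81 [Finite G] [(pCore 2 (↥(centralizer (Z : Set G)) ⧸ Q)).Normal] (s : Sit Z Q L)
    (hl : H261.Loc 3 Z (Q.map (centralizer (Z : Set G)).subtype)) (ht : Ab27 (TopQ Q))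
    {x : G} {n : ℕ} (hx : x ^ 3 ^ n = 1) : x ^ 81 = 1 := by
  have : Fact (Nat.Prime 3) := ⟨Nat.prime_three⟩
  have hA : IsPGroup 3 ↥(zpowers x) := by
    obtain ⟨k, -, hk⟩ := (Nat.dvd_prime_pow Nat.prime_three).1 (orderOf_dvd_of_pow_eq_one hx)
    exact IsPGroup.of_card (n := k) (by rw [Nat.card_zpowers, hk])
  obtain ⟨P, hP⟩ := hA.exists_le_sylow
  obtain ⟨T, hT⟩ := hl.pQ.exists_le_sylow
  obtain ⟨g, hg⟩ := MulAction.exists_smul_eq G P T
  have hTC := hl.le_cent Nat.prime_three T.isPGroup' hT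
  have hm : g * x * g⁻¹ ∈ centralizer (Z : Set G) := by
    apply hTC
    rw [← hg]
    exact Subgroup.smul_mem_pointwise_smul x (MulAut.conj g) (P : Subgroup G) (hP (mem_zpowers x))
  set y : ↥(centralizer (Z : Set G)) := ⟨g * x * g⁻¹, hm⟩ with hy
  have hy3 : y ^ 3 ^ n = 1 := by
    apply Subtype.ext
    rw [Subgroup.coe_pow, hy]
    change (g * x * g⁻¹) ^ 3 ^ n = 1
    rw [conj_pow, hx, mul_one, mul_inv_cancel]
  -- the image in `M / Q`
  have h27 : (QuotientGroup.mk' Q y) ^ 27 = 1 := by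
    have h1 : IsPGroup 3 ↥(zpowers (QuotientGroup.mk' Q y)) := by
      have h2 : (QuotientGroup.mk' Q y) ^ 3 ^ n = 1 := by rw [← map_pow, hy3, map_one]
      obtain ⟨k, -, hk⟩ := (Nat.dvd_prime_pow Nat.prime_three).1 (orderOf_dvd_of_pow_eq_one h2)
      exact IsPGroup.of_card (n := k) (by rw [Nat.card_zpowers, hk])
    have h2 := s.hyp.ab27 ht (zpowers (QuotientGroup.mk' Q y)) h1 (by
      rintro _ ⟨a, rfl⟩ _ ⟨b, rfl⟩
      exact ((Commute.refl (QuotientGroup.mk' Q y)).zpow_zpow a b))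
    obtain ⟨k, hk⟩ := h1.exists_card_eq
    rw [hk] at h2
    have h3 : k ≤ 3 := by
      by_contra hcon
      push Not at hcon
      have h4 : 3 ^ 4 ≤ 3 ^ k := Nat.pow_le_pow_right (by norm_num) hcon
      omega
    rw [Nat.card_zpowers] at hk
    have h5 : orderOf (QuotientGroup.mk' Q y) ∣ 27 := by
      rw [hk]
      exact pow_dvd_pow 3 h3
    exact orderOf_dvd_iff_pow_eq_one.1 h5
  have h1 : y ^ 27 ∈ Q := by
    rw [← map_pow] at h27
    exact (QuotientGroup.eq_one_iff _).1 h27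
  have h2 : y ^ 81 = 1 := by
    have := s.hyp.exp _ h1
    rwa [← pow_mul] at this
  have h3 : (g * x * g⁻¹) ^ 81 = 1 := congrArg Subtype.val h2
  rw [conj_pow] at h3
  have h4 : x ^ 81 = g⁻¹ * (g * x ^ 81 * g⁻¹) * g := by group
  rw [h4, h3, mul_one, inv_mul_cancel]

end Cfsg.Agent.H243
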