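import Mathlib
import Cfsg.Agent.H128.RowsFac
import Cfsg.Agent.H243.ExcRow
import Cfsg.Agent.H243.AltRow
import Cfsg.Agent.H243.Fi23Kill
import Cfsg.Agent.H243.BKillB
import Cfsg.Agent.H243.Exp

/-!
# The identification of `L` (helper243)
-/

set_option autoImplicit false

namespace Cfsg.Agent.H243.Final

open Subgroup Cfsg Cfsg.Lie

universe u

variable {K : Type u} [Group K] {z : K}

theorem not_cyclic (hna : ¬ IsMulCommutative K) (h : IsPrimeCyclic K) : False := by
  have : Fact (Nat.card K).Prime := ⟨h⟩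
  have : IsCyclic K := isCyclic_of_prime_card (p := Nat.card K) rfl
  exact hna (IsCyclic.isMulCommutative (α := K))

theorem not_alt (h : Fac K z) (hK : IsAlternating K) : False := by
  obtain ⟨n, -, ⟨e⟩⟩ := hK
  exact AltRow.alt_false h.d12 h.ab e

/-- **The list, case `PSp₄(3)`.** -/
theorem known_B (T : OrdDiv.OrderTable.{u}) (h : FacB K z) (hexp : ∀ (x : K) (n : ℕ), x ^ 3 ^ n = 1 → x ^ 81 = 1)
    (hna : ¬ IsMulCommutative K) (hK : IsKnownSimple' K) : Spor.IsoB K := by
  obtain ⟨c1, c2, c3, c4, c5, c6⟩ := H128.RowsFac.classical_B h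
  have hs : ∀ hS : IsSporadicGroup K ∨ IsoTits K, Spor.IsoB K := by
    intro hS
    rcases ExcRow.spor T h.toFac hS with h1 | h1
    · refine (Fi23Kill.fi23_false h1 h.ord ?_ ?_).elim
      · exact (Dvd.intro_left (2 ^ 6) rfl |>.trans (Dvd.intro 5 rfl)).trans h.c5
      · exact (Dvd.intro_left _ rfl).trans h.c5
    · exact h1
  rcases hK with hK | hK | hK | hK | hK | hK | hK | hK | hK | hK
  · exact (not_cyclic hna hK).elim
  · exact (not_alt h.toFac hK).elim
  · exact (c1 hK).elim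
  · exact (c2 hK).elim
  · exact (c3 hK).elim
  · exact (c4 hK).elim
  · exact (c5 hK).elim
  · exact (c6 hK).elim
  · rcases ExcRow.exc T h.toFac hexp hK with h1 | h1
    · exfalso
      rcases h1 with ⟨F, _, _, h3, he | he | he | he | he⟩ | ⟨F, _, _, q, hq, hF, h3, ⟨e⟩⟩ | ⟨F, _, _, q, hq, hF, h3, ⟨e⟩⟩ |
        ⟨F, _, _, m, hm, hF, ⟨e⟩⟩
      · exact he.elim fun e => H128.RowsFac.g2_three T (H128.RowsFac.hyp3_B h) h3 e
      · exact he.elim fun e => H128.RowsFac.f4_three T (H128.RowsFac.hyp h.toFac) h3 e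
      · exact he.elim fun e => H128.RowsFac.e6_three T (H128.RowsFac.hyp h.toFac) h3 e
      · exact he.elim fun e => H128.RowsFac.e7_three T (H128.RowsFac.hyp h.toFac) h3 e
      · exact he.elim fun e => H128.RowsFac.e8_three T (H128.RowsFac.hyp h.toFac) h3 e
      · exact H128.RowsFac.te6_three T (H128.RowsFac.hyp h.toFac) hq hF (hF ▸ dvd_pow h3 two_ne_zero) e
      · exact H128.RowsFac.td4_three_B T h hq hF (hF ▸ dvd_pow h3 three_ne_zero) e
      · exact H128.RowsFac.ree T (H128.RowsFac.hyp h.toFac) hm hF e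
    · exact hs (Or.inr h1)
  · exact hs (Or.inl hK)

/-- **The list, case of the centralizer in `PSp₄(3)`.** -/
theorem known_F (T : OrdDiv.OrderTable.{u}) (h : FacF K z) (hexp : ∀ (x : K) (n : ℕ), x ^ 3 ^ n = 1 → x ^ 81 = 1)
    (hna : ¬ IsMulCommutative K) (hK : IsKnownSimple' K) : Spor.IsoFi23 K := by
  obtain ⟨c1, c2, c3, c4, c5, c6⟩ := H128.RowsFac.classical_F h
  have hs : ∀ hS : IsSporadicGroup K ∨ IsoTits K, Spor.IsoFi23 K := by
    intro hS
    rcases ExcRow.spor T h.toFac hS with h1 | h1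
    · exact h1
    · exact (BKillB.b_false h1 h.ord h.cd').elim
  rcases hK with hK | hK | hK | hK | hK | hK | hK | hK | hK | hK
  · exact (not_cyclic hna hK).elim
  · exact (not_alt h.toFac hK).elim
  · exact (c1 hK).elim
  · exact (c2 hK).elim
  · exact (c3 hK).elim
  · exact (c4 hK).elim
  · exact (c5 hK).elim
  · exact (c6 hK).elim
  · rcases ExcRow.exc T h.toFac hexp hK with h1 | h1
    · exfalso
      rcases h1 with ⟨F, _, _, h3, he | he | he | he | he⟩ | ⟨F, _, _, q, hq, hF, h3, ⟨e⟩⟩ | ⟨F, _, _, q, hq, hF, h3, ⟨e⟩⟩ |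
        ⟨F, _, _, m, hm, hF, ⟨e⟩⟩
      · exact he.elim fun e => H128.RowsFac.g2_three T (H128.RowsFac.hyp3_F h) h3 e
      · exact he.elim fun e => H128.RowsFac.f4_three T (H128.RowsFac.hyp h.toFac) h3 e
      · exact he.elim fun e => H128.RowsFac.e6_three T (H128.RowsFac.hyp h.toFac) h3 e
      · exact he.elim fun e => H128.RowsFac.e7_three T (H128.RowsFac.hyp h.toFac) h3 e
      · exact he.elim fun e => H128.RowsFac.e8_three T (H128.RowsFac.hyp h.toFac) h3 e
      · exact H128.RowsFac.te6_three T (H128.RowsFac.hyp h.toFac) hq hF (hF ▸ dvd_pow h3 two_ne_zero) e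
      · exact H128.RowsFac.td4_three_F T h hq hF (hF ▸ dvd_pow h3 three_ne_zero) e
      · exact H128.RowsFac.ree T (H128.RowsFac.hyp h.toFac) hm hF e
    · exact hs (Or.inr h1)
  · exact hs (Or.inl hK)

/-- `G = L` if `Out L = 1` -/
theorem eq_top {G : Type u} [Group G] {L : Subgroup G} [L.Normal] (hc : centralizer (L : Set G) = ⊥)
    (ho : Nat.card (Out ↥L) = 1) : L = ⊤ := by
  rw [eq_top_iff]
  intro g _
  rw [← toOut_ker hc]
  have : Subsingleton (Out ↥L) := (Nat.card_eq_one_iff_unique.1 ho).1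
  exact Subsingleton.elim _ _

end Cfsg.Agent.H243.Final
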