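import Mathlib
import Cfsg.Agent.H243.SpB

/-!
# The quotients `M / O_{3,2}(M)`: `PSp₄(3)` and the centralizer of a 3-central element (helper243)
-/

set_option autoImplicit false

namespace Cfsg.Agent.H243

open Matrix Subgroup Cfsg
open scoped commutatorElement

universe u v

/-- A non-abelian 3-subgroup in the third derived subgroup. -/
def NC (T : Type u) [Group T] : Prop :=
  ∃ a b : T, a ∈ derivedSeries T 3 ∧ b ∈ derivedSeries T 3 ∧ a * b ≠ b * a ∧
    ∃ W : Subgroup T, IsPGroup 3 ↥W ∧ a ∈ W ∧ b ∈ W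

/-- abelian 3-subgroups are small -/
def Ab27 (T : Type u) [Group T] : Prop :=
  ∀ E : Subgroup T, IsPGroup 3 ↥E → (∀ a ∈ E, ∀ b ∈ E, a * b = b * a) → Nat.card ↥E ≤ 27

/-- the centralizer in `PSp₄(3)` -/
structure TopT (T : Type u) [Group T] : Prop where
  card : Nat.card T = 648
  nc : NC T
  ab : Ab27 T

/-- `PSp₄(3)` -/
structure TopP (T : Type u) [Group T] : Prop where
  card : Nat.card T = 25920
  simple : IsSimpleGroup T
  nab : ∃ a b : T, a * b ≠ b * a
  ab : Ab27 T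

theorem NC.congr {T : Type u} {T' : Type v} [Group T] [Group T'] (e : T ≃* T') (h : NC T) : NC T' := by
  obtain ⟨a, b, ha, hb, hab, W, hW, haW, hbW⟩ := h
  refine ⟨e a, e b, ?_, ?_, ?_, W.map e.toMonoidHom, hW.map _, ⟨a, haW, rfl⟩, ⟨b, hbW, rfl⟩⟩
  · exact map_derivedSeries_le_derivedSeries e.toMonoidHom 3 ⟨a, ha, rfl⟩
  · exact map_derivedSeries_le_derivedSeries e.toMonoidHom 3 ⟨b, hb, rfl⟩
  · intro h
    rw [← map_mul, ← map_mul] at h
    exact hab (e.injective h)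

theorem Ab27.of_inj {T : Type u} {T' : Type v} [Group T] [Group T'] (f : T →* T') (hf : Function.Injective f) (h : Ab27 T') :
    Ab27 T := by
  intro E hE hab
  have h1 := h (E.map f) (hE.map f) (by
    rintro _ ⟨a, ha, rfl⟩ _ ⟨b, hb, rfl⟩
    rw [← map_mul, ← map_mul, hab a ha b hb])
  rwa [Nat.card_congr (E.equivMapOfInjective f hf).symm.toEquiv] at h1

theorem TopT.congr {T : Type u} {T' : Type v} [Group T] [Group T'] (e : T ≃* T') (h : TopT T) : TopT T' :=
  ⟨by rw [← Nat.card_congr e.toEquiv, h.card], h.nc.congr e, h.ab.of_inj e.symm.toMonoidHom e.symm.injective⟩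

theorem TopP.congr {T : Type u} {T' : Type v} [Group T] [Group T'] (e : T ≃* T') (h : TopP T) : TopP T' := by
  refine ⟨by rw [← Nat.card_congr e.toEquiv, h.card], ?_, ?_, h.ab.of_inj e.symm.toMonoidHom e.symm.injective⟩
  · have := h.simple
    have : Nontrivial T' := e.symm.toEquiv.nontrivial
    exact IsSimpleGroup.isSimpleGroup_of_surjective e.toMonoidHom e.surjective
  · obtain ⟨a, b, hab⟩ := h.nab
    refine ⟨e a, e b, fun h => hab ?_⟩
    rw [← map_mul, ← map_mul] at h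
    exact e.injective h

namespace Sp43

/-- the two non-commuting elements -/
theorem nc_aux : uM 1 0 0 0 * uM 0 0 1 0 ≠ uM 0 0 1 0 * uM 1 0 0 0 := by decide +kernel

theorem ab_PSp : Ab27 (PSp 2 F3) := by
  have : Fact (Nat.Prime 3) := ⟨Nat.prime_three⟩
  intro E hE hab
  obtain ⟨P, hP⟩ := hE.exists_le_sylow
  have hPc : Nat.card ↥(P : Subgroup (PSp 2 F3)) = 81 := by
    have h1 := Nat.card_congr (Sylow.equiv P Us).toEquiv
    rw [h1]
    exact card_Ub
  by_contra hcon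
  push Not at hcon
  obtain ⟨k, hk⟩ := IsPGroup.iff_card.1 hE
  have hdvd : Nat.card ↥E ∣ 81 := by rw [← hPc]; exact Subgroup.card_dvd_of_le hP
  have h81 : Nat.card ↥E = 81 := by
    have h5 : Nat.card ↥E ∈ Nat.divisors 81 := Nat.mem_divisors.2 ⟨hdvd, by norm_num⟩
    have h6 : Nat.divisors 81 = {1, 3, 9, 27, 81} := by decide +kernel
    rw [h6] at h5
    simp only [Finset.mem_insert, Finset.mem_singleton] at h5
    omega
  have hEP : E = (P : Subgroup (PSp 2 F3)) := Subgroup.eq_of_le_of_card_ge hP (by rw [h81, hPc])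
  obtain ⟨g, hg⟩ := MulAction.exists_smul_eq (PSp 2 F3) P Us
  have hmem : ∀ y ∈ Ub, g⁻¹ * y * g ∈ E := by
    intro y hy
    have h1 : y ∈ ((g • P : Sylow 3 (PSp 2 F3)) : Subgroup (PSp 2 F3)) := by rw [hg]; exact hy
    rw [Sylow.coe_subgroup_smul, Subgroup.mem_pointwise_smul_iff_inv_smul_mem] at h1
    rw [hEP]
    simpa [MulAut.smul_def] using h1
  have h1 := hab _ (hmem (π (uS 1 0 0 0)) ⟨_, ⟨_, _, _, _, rfl⟩, rfl⟩) _ (hmem (π (uS 0 0 1 0)) ⟨_, ⟨_, _, _, _, rfl⟩, rfl⟩)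
  have h2 : π (uS 1 0 0 0) * π (uS 0 0 1 0) = π (uS 0 0 1 0) * π (uS 1 0 0 0) := by
    calc π (uS 1 0 0 0) * π (uS 0 0 1 0) = g * ((g⁻¹ * π (uS 1 0 0 0) * g) * (g⁻¹ * π (uS 0 0 1 0) * g)) * g⁻¹ := by group
      _ = g * ((g⁻¹ * π (uS 0 0 1 0) * g) * (g⁻¹ * π (uS 1 0 0 0) * g)) * g⁻¹ := by rw [h1]
      _ = _ := by group
  rw [← map_mul, ← map_mul] at h2
  have h3 := π_inj_U (U.mul_mem ⟨_, _, _, _, rfl⟩ ⟨_, _, _, _, rfl⟩) (U.mul_mem ⟨_, _, _, _, rfl⟩ ⟨_, _, _, _, rfl⟩) h2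
  exact nc_aux (congrArg Subtype.val h3)

/-- Elements of the Levi factor. -/
def lM (p q r s : F3) : Mat := toM ![![1, 0, 0, 0], ![0, p, 0, q], ![0, 0, 1, 0], ![0, r, 0, s]]

theorem lM_mem : ∀ p q r s : F3, p * s - q * r = 1 → lM p q r s ∈ Matrix.symplecticGroup (Fin 2) F3 := by
  decide +kernel

def lS (p q r s : F3) (h : p * s - q * r = 1) : ↥St :=
  ⟨⟨lM p q r s, lM_mem p q r s h⟩, by
    rw [mem_St]
    ext i
    rw [mulVec_v0]
    rcases i with i | i <;> fin_cases i <;> simp [lM, toM, ix, v0]⟩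

def uT (a b c d : F3) : ↥St := ⟨uS a b c d, U_le_St ⟨_, _, _, _, rfl⟩⟩

theorem mem_succ {G : Type u} [Group G] {x y z : G} {n : ℕ} (hx : x ∈ derivedSeries G n) (hy : y ∈ derivedSeries G n)
    (h : x * y = z * (y * x)) : z ∈ derivedSeries G (n + 1) := by
  have h1 : z = ⁅x, y⁆ := by
    rw [commutatorElement_def, h]; group
  rw [h1, derivedSeries_succ]
  exact Subgroup.commutator_mem_commutator hx hy

theorem coe_eq {x y : ↥St} (h : ((x : Sp) : Mat) = ((y : Sp) : Mat)) : x = y := Subtype.ext (Subtype.ext h)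

theorem der_St : uT 1 0 0 0 ∈ derivedSeries ↥St 3 ∧ uT 0 0 1 0 ∈ derivedSeries ↥St 3 := by
  have h0 : ∀ x : ↥St, x ∈ derivedSeries ↥St 0 := fun x => by rw [derivedSeries_zero]; trivial
  -- the quaternion group
  have i1 : lS 0 1 2 0 (by decide) ∈ derivedSeries ↥St 1 :=
    mem_succ (h0 (lS 0 1 2 2 (by decide))) (h0 (lS 0 1 2 1 (by decide))) (coe_eq (by decide +kernel))
  have j1 : lS 1 1 1 2 (by decide) ∈ derivedSeries ↥St 1 :=
    mem_succ (h0 (lS 0 1 2 0 (by decide))) (h0 (lS 1 1 2 0 (by decide))) (coe_eq (by decide +kernel))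
  have c2 : lS 2 0 0 2 (by decide) ∈ derivedSeries ↥St 2 := mem_succ i1 j1 (coe_eq (by decide +kernel))
  have c1 : lS 2 0 0 2 (by decide) ∈ derivedSeries ↥St 1 := derivedSeries_antitone _ (by norm_num : 1 ≤ 2) c2
  have e1 : uT 1 0 0 0 ∈ derivedSeries ↥St 1 :=
    mem_succ (h0 (lS 2 0 0 2 (by decide))) (h0 (uT 1 0 0 0)) (coe_eq (by decide +kernel))
  have e2 : uT 1 0 0 0 ∈ derivedSeries ↥St 2 := mem_succ c1 e1 (coe_eq (by decide +kernel))
  have e3 : uT 1 0 0 0 ∈ derivedSeries ↥St 3 := mem_succ c2 e2 (coe_eq (by decide +kernel))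
  have f1 : uT 0 0 1 0 ∈ derivedSeries ↥St 1 :=
    mem_succ (h0 (lS 2 0 0 2 (by decide))) (h0 (uT 0 0 1 0)) (coe_eq (by decide +kernel))
  have f2 : uT 0 0 1 0 ∈ derivedSeries ↥St 2 := mem_succ c1 f1 (coe_eq (by decide +kernel))
  have f3 : uT 0 0 1 0 ∈ derivedSeries ↥St 3 := mem_succ c2 f2 (coe_eq (by decide +kernel))
  exact ⟨e3, f3⟩

/-- `St` maps onto the centralizer. -/
noncomputable def φ : ↥St →* ↥(centralizer ({π τ} : Set (PSp 2 F3))) :=
  (π.comp St.subtype).codRestrict _ (fun x => by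
    rw [cent_eq]
    exact ⟨x, x.2, rfl⟩)

theorem φ_coe (x : ↥St) : ((φ x : ↥(centralizer ({π τ} : Set (PSp 2 F3)))) : PSp 2 F3) = π x := rfl

theorem nc_cent : NC ↥(centralizer ({π τ} : Set (PSp 2 F3))) := by
  refine ⟨φ (uT 1 0 0 0), φ (uT 0 0 1 0), map_derivedSeries_le_derivedSeries φ 3 ⟨_, der_St.1, rfl⟩,
    map_derivedSeries_le_derivedSeries φ 3 ⟨_, der_St.2, rfl⟩, ?_, (Ub.subgroupOf _), ?_, ?_, ?_⟩
  · intro h
    have h1 : π ((uS 1 0 0 0) * (uS 0 0 1 0)) = π ((uS 0 0 1 0) * (uS 1 0 0 0)) := by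
      rw [map_mul, map_mul]
      exact congrArg Subtype.val h
    have h3 := π_inj_U (U.mul_mem ⟨_, _, _, _, rfl⟩ ⟨_, _, _, _, rfl⟩) (U.mul_mem ⟨_, _, _, _, rfl⟩ ⟨_, _, _, _, rfl⟩) h1
    exact nc_aux (congrArg Subtype.val h3)
  · exact Ub_pgroup.comap_subtype
  · rw [mem_subgroupOf]
    exact ⟨_, ⟨_, _, _, _, rfl⟩, rfl⟩
  · rw [mem_subgroupOf]
    exact ⟨_, ⟨_, _, _, _, rfl⟩, rfl⟩

theorem topT_cent : TopT ↥(centralizer ({π τ} : Set (PSp 2 F3))) :=
  ⟨card_cent, nc_cent, ab_PSp.of_inj _ (Subgroup.subtype_injective _)⟩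

theorem topT_F3 {x : PSp 2 F3} (hx : orderOf x = 3) {P : Sylow 3 (PSp 2 F3)}
    (hP : (P : Subgroup (PSp 2 F3)) ≤ centralizer ({x} : Set (PSp 2 F3))) : TopT ↥(centralizer ({x} : Set (PSp 2 F3))) := by
  have : Fact (Nat.Prime 3) := ⟨Nat.prime_three⟩
  obtain ⟨g, hg⟩ := MulAction.exists_smul_eq (PSp 2 F3) P Us
  have hmem : ∀ y ∈ Ub, g⁻¹ * y * g ∈ (P : Subgroup (PSp 2 F3)) := by
    intro y hy
    have h1 : y ∈ ((g • P : Sylow 3 (PSp 2 F3)) : Subgroup (PSp 2 F3)) := by rw [hg]; exact hy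
    rw [Sylow.coe_subgroup_smul, Subgroup.mem_pointwise_smul_iff_inv_smul_mem] at h1
    simpa [MulAut.smul_def] using h1
  -- `x' = g x g⁻¹` centralizes `Ub`
  have hc : ∀ y ∈ Ub, (g * x * g⁻¹) * y = y * (g * x * g⁻¹) := by
    intro y hy
    have h1 := (mem_centralizer_singleton_iff.1 (hP (hmem y hy)))
    calc (g * x * g⁻¹) * y = g * (x * (g⁻¹ * y * g)) * g⁻¹ := by group
      _ = g * ((g⁻¹ * y * g) * x) * g⁻¹ := by rw [h1]
      _ = _ := by group
  have hx3 : (g * x * g⁻¹) ^ 3 = 1 := by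
    have h3 : x ^ 3 = 1 := by
      have := pow_orderOf_eq_one x
      rwa [hx] at this
    rw [conj_pow, h3, mul_one, mul_inv_cancel]
  have hxU : g * x * g⁻¹ ∈ Ub := by
    have hz : IsPGroup 3 ↥(zpowers (g * x * g⁻¹)) := by
      intro y
      obtain ⟨n, hn⟩ := mem_zpowers_iff.1 y.2
      refine ⟨1, Subtype.ext ?_⟩
      rw [pow_one, Subgroup.coe_pow, ← hn, ← zpow_natCast, zpow_comm, zpow_natCast, hx3, _root_.one_zpow]
      rfl
    have h1 := hz.inf_normalizer_sylow Us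
    have h2 : g * x * g⁻¹ ∈ zpowers (g * x * g⁻¹) ⊓ normalizer (Us : Set (PSp 2 F3)) := by
      refine ⟨mem_zpowers _, ?_⟩
      refine Subgroup.centralizer_le_normalizer _ ?_ |> fun h => h
      rw [mem_centralizer_iff]
      intro y hy
      exact (hc y hy).symm
    rw [h1] at h2
    exact h2.2
  have hcent : centralizer ({g * x * g⁻¹} : Set (PSp 2 F3)) = centralizer ({π τ} : Set (PSp 2 F3)) := by
    rcases center_Ub hxU hc with h1 | h1 | h1
    · exfalso
      have h2 : x = 1 := by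
        have := conj_eq_one_iff.1 h1
        exact this
      rw [h2, orderOf_one] at hx
      norm_num at hx
    · rw [h1]
    · rw [h1]
      ext y
      rw [mem_centralizer_singleton_iff, mem_centralizer_singleton_iff]
      constructor
      · intro h
        have : Commute y (π τ)⁻¹ := h
        exact (Commute.inv_right_iff.1 this)
      · intro h
        have : Commute y (π τ) := h
        exact (Commute.inv_right_iff.2 this)
  -- conjugation
  have e : ↥(centralizer ({g * x * g⁻¹} : Set (PSp 2 F3))) ≃* ↥(centralizer ({x} : Set (PSp 2 F3))) := by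
    have h1 : (centralizer ({x} : Set (PSp 2 F3))).map (MulAut.conj g).toMonoidHom = centralizer ({g * x * g⁻¹} : Set (PSp 2 F3)) := by
      ext y
      rw [Subgroup.mem_map, mem_centralizer_singleton_iff]
      constructor
      · rintro ⟨z, hz, rfl⟩
        have hz' : z * x = x * z := mem_centralizer_singleton_iff.1 hz
        change g * z * g⁻¹ * (g * x * g⁻¹) = g * x * g⁻¹ * (g * z * g⁻¹)
        calc g * z * g⁻¹ * (g * x * g⁻¹) = g * (z * x) * g⁻¹ := by group
          _ = g * (x * z) * g⁻¹ := by rw [hz']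
          _ = _ := by group
      · intro h
        refine ⟨g⁻¹ * y * g, ?_, ?_⟩
        · change g⁻¹ * y * g ∈ centralizer ({x} : Set (PSp 2 F3))
          rw [mem_centralizer_singleton_iff]
          calc g⁻¹ * y * g * x = g⁻¹ * (y * (g * x * g⁻¹)) * g := by group
            _ = g⁻¹ * ((g * x * g⁻¹) * y) * g := by rw [h]
            _ = x * (g⁻¹ * y * g) := by group
        · change g * (g⁻¹ * y * g) * g⁻¹ = y
          group
    rw [← h1]
    exact (((centralizer ({x} : Set (PSp 2 F3))).equivMapOfInjective _ (MulAut.conj g).injective)).symm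
  rw [hcent] at e
  exact topT_cent.congr e

end Sp43

open Sp43

theorem exists_ringEquiv {F : Type u} [Field F] [Fintype F] (hF : Fintype.card F = 3) : Nonempty (F ≃+* F3) :=
  ⟨(ZMod.ringEquivOfPrime F Nat.prime_three hF).symm⟩

/-- `PSp₄(3)` -/
theorem topP {F : Type u} [Field F] [Fintype F] (hF : Fintype.card F = 3) : TopP (PSp 2 F) := by
  obtain ⟨e⟩ := exists_ringEquiv hF
  have h1 : TopP (PSp 2 F3) := by
    refine ⟨card_PSp, Cfsg.Agent.S0270.result 2 le_rfl (fun _ => by rw [ZMod.card]), ?_, ab_PSp⟩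
    refine ⟨π (uS 1 0 0 0), π (uS 0 0 1 0), fun h => ?_⟩
    rw [← map_mul, ← map_mul] at h
    have h3 := π_inj_U (U.mul_mem ⟨_, _, _, _, rfl⟩ ⟨_, _, _, _, rfl⟩) (U.mul_mem ⟨_, _, _, _, rfl⟩ ⟨_, _, _, _, rfl⟩) h
    exact nc_aux (congrArg Subtype.val h3)
  exact h1.congr (Cfsg.Agent.LieClassical.FieldTransfer.pspCongr 2 e.symm)

/-- the centralizer of a 3-central element of order 3 in `PSp₄(3)` -/
theorem topT {F : Type u} [Field F] [Fintype F] (hF : Fintype.card F = 3) {x : PSp 2 F} (hx : orderOf x = 3)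
    (hP : ∃ P : Sylow 3 (PSp 2 F), (P : Subgroup (PSp 2 F)) ≤ centralizer ({x} : Set (PSp 2 F))) :
    TopT ↥(centralizer ({x} : Set (PSp 2 F))) := by
  obtain ⟨e⟩ := exists_ringEquiv hF
  obtain ⟨P, hP⟩ := hP
  let E : PSp 2 F ≃* PSp 2 F3 := Cfsg.Agent.LieClassical.FieldTransfer.pspCongr 2 e
  have hmap : (centralizer ({x} : Set (PSp 2 F))).map E.toMonoidHom = centralizer ({E x} : Set (PSp 2 F3)) := by
    ext y
    rw [Subgroup.mem_map, mem_centralizer_singleton_iff]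
    constructor
    · rintro ⟨z, hz, rfl⟩
      have hz' : z * x = x * z := mem_centralizer_singleton_iff.1 hz
      change E z * E x = E x * E z
      rw [← map_mul, ← map_mul, hz']
    · intro h
      refine ⟨E.symm y, ?_, E.apply_symm_apply y⟩
      change E.symm y ∈ centralizer ({x} : Set (PSp 2 F))
      rw [mem_centralizer_singleton_iff]
      apply E.injective
      rw [map_mul, map_mul, E.apply_symm_apply, h]
  have hPE : ((P.mapSurjective (f := E.toMonoidHom) E.surjective : Sylow 3 (PSp 2 F3)) : Subgroup (PSp 2 F3)) ≤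
      centralizer ({E x} : Set (PSp 2 F3)) := by
    rw [← hmap]
    exact Subgroup.map_mono hP
  have h1 := topT_F3 (x := E x) ((orderOf_injective E.toMonoidHom E.injective x).trans hx) hPE
  rw [← hmap] at h1
  exact h1.congr ((centralizer ({x} : Set (PSp 2 F))).equivMapOfInjective _ E.injective).symm

end Cfsg.Agent.H243
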