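import Mathlib
import Cfsg.Prelude.Def_KGroupFacts
import Cfsg.Agent.H243.Abel
import Cfsg.Agent.H243.Top

/-!
# The simple group `L = F*(G)` (helper243)
-/

set_option autoImplicit false

namespace Cfsg.Agent.H243

open Subgroup Cfsg
open scoped commutatorElement

universe u

variable {G : Type u} [Group G]

/-- The situation: `M = C_G(Z)`, `Q = F*(M)`, `L = F*(G)` simple. -/
structure Sit (Z : Subgroup G) (Q : Subgroup ↥(centralizer (Z : Set G))) [Q.Normal] (L : Subgroup G) : Prop where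
  cardZ : Nat.card ↥Z = 3
  hyp : Hyp Q
  ZQ : ∀ z ∈ Z, ∃ hz : z ∈ centralizer (Z : Set G), ∃ hq : (⟨z, hz⟩ : ↥(centralizer (Z : Set G))) ∈ Q,
      (⟨_, hq⟩ : ↥Q) ∈ center ↥Q
  QZ : ∀ x : ↥Q, x ∈ center ↥Q → ((x : ↥(centralizer (Z : Set G))) : G) ∈ Z
  normal : L.Normal
  simple : IsSimpleGroup ↥L
  nab : ¬ IsMulCommutative ↥L
  ZL : Z ≤ L
  cent : centralizer (L : Set G) = ⊥

/-- `Z` is not normal. -/
theorem not_normal_of {Z S : Subgroup G} [Finite G]
    (hwc : ∃ g : G, (Z.map (MulAut.conj g).toMonoidHom) ≤ S ∧ Z.map (MulAut.conj g).toMonoidHom ≠ Z) :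
    ∃ g : G, ∃ z ∈ Z, g * z * g⁻¹ ∉ Z := by
  obtain ⟨g, -, hne⟩ := hwc
  refine ⟨g, ?_⟩
  by_contra hcon
  push Not at hcon
  apply hne
  refine Subgroup.eq_of_le_of_card_ge ?_ ?_
  · rintro _ ⟨z, hz, rfl⟩
    exact hcon z hz
  · rw [Nat.card_congr (Z.equivMapOfInjective _ (MulAut.conj g).injective).symm.toEquiv]

/-- **The situation from the hypotheses of the statements.** -/
theorem exists_sit [Finite G] {Z : Subgroup G} (hO : pPrimeCore 3 G = ⊥) (hZ : Nat.card ↥Z = 3)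
    {Q : Subgroup ↥(centralizer (Z : Set G))} [Q.Normal]
    (hF : generalizedFittingSubgroup ↥(centralizer (Z : Set G)) = Q)
    (hQ : IsExtraspecial 3 ↥Q) (hc : Nat.card ↥Q = 3 ^ 9) (he : ∀ x ∈ Q, x ^ 3 = 1)
    (hFR : generalizedFittingSubgroup (↥(centralizer (Z : Set G)) ⧸ Q) = pCore 2 (↥(centralizer (Z : Set G)) ⧸ Q))
    (hR : IsExtraspecial 2 ↥(pCore 2 (↥(centralizer (Z : Set G)) ⧸ Q)))
    (hRc : Nat.card ↥(pCore 2 (↥(centralizer (Z : Set G)) ⧸ Q)) = 2 ^ 7)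
    (hw : ∃ g : G, ∃ z ∈ Z, g * z * g⁻¹ ∉ Z) :
    Sit Z Q (generalizedFittingSubgroup G) ∧ H261.Loc 3 Z (Q.map (centralizer (Z : Set G)).subtype) := by
  obtain ⟨h, h1, h2⟩ := mk_hyp hZ hF hQ hc he hFR hR hRc
  have hl := mk_loc hZ h h1 h2
  obtain ⟨a1, a2, a3, a4, a5⟩ := hl.simple Nat.prime_three hO hw
  exact ⟨⟨hZ, h, h1, h2, a1, a2, a3, a4, a5⟩, hl⟩

variable {Z : Subgroup G} {Q : Subgroup ↥(centralizer (Z : Set G))} [Q.Normal] {L : Subgroup G}

/-- the top section -/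
abbrev TopQ (Q : Subgroup ↥(centralizer (Z : Set G))) [Q.Normal] [(pCore 2 (↥(centralizer (Z : Set G)) ⧸ Q)).Normal] : Type u :=
  (↥(centralizer (Z : Set G)) ⧸ Q) ⧸ pCore 2 (↥(centralizer (Z : Set G)) ⧸ Q)

/-- the projection of `M` onto the top section -/
def θ (Q : Subgroup ↥(centralizer (Z : Set G))) [Q.Normal] [(pCore 2 (↥(centralizer (Z : Set G)) ⧸ Q)).Normal] :
    ↥(centralizer (Z : Set G)) →* TopQ Q :=
  (QuotientGroup.mk' (pCore 2 (↥(centralizer (Z : Set G)) ⧸ Q))).comp (QuotientGroup.mk' Q)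

theorem θ_surj [(pCore 2 (↥(centralizer (Z : Set G)) ⧸ Q)).Normal] : Function.Surjective (θ Q) :=
  (QuotientGroup.mk'_surjective _).comp (QuotientGroup.mk'_surjective _)

/-- `N = C_L(Z)` as a subgroup of `M` -/
def NL (Z L : Subgroup G) : Subgroup ↥(centralizer (Z : Set G)) := L.subgroupOf _

theorem mem_NL {m : ↥(centralizer (Z : Set G))} : m ∈ NL Z L ↔ (m : G) ∈ L := mem_subgroupOf

theorem NL_normal (hL : L.Normal) : (NL Z L).Normal := ⟨fun m hm g => by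
  rw [mem_NL] at hm ⊢
  exact hL.conj_mem _ hm g⟩

/-- the map to the outer automorphism group -/
def toOut (L : Subgroup G) [L.Normal] : G →* Out ↥L :=
  (QuotientGroup.mk' (Inn ↥L)).comp (MulAut.conjNormal (H := L))

theorem toOut_ker [hL : L.Normal] (hc : centralizer (L : Set G) = ⊥) {g : G} : toOut L g = 1 ↔ g ∈ L := by
  rw [toOut, MonoidHom.comp_apply]
  change (QuotientGroup.mk (MulAut.conjNormal g) : Out ↥L) = 1 ↔ g ∈ L
  rw [QuotientGroup.eq_one_iff]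
  constructor
  · rintro ⟨l, hl⟩
    have h1 : g⁻¹ * (l : G) ∈ centralizer (L : Set G) := by
      rw [mem_centralizer_iff]
      intro x hx
      have h2 := congrArg (fun f : MulAut ↥L => ((f ⟨x, hx⟩ : ↥L) : G)) hl
      simp only [MulAut.conj_apply, Subgroup.coe_mul, Subgroup.coe_inv, MulAut.conjNormal_apply] at h2
      calc x * (g⁻¹ * (l : G)) = g⁻¹ * (g * x * g⁻¹) * (l : G) := by group
        _ = g⁻¹ * ((l : G) * x * (l : G)⁻¹) * (l : G) := by rw [h2]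
        _ = g⁻¹ * (l : G) * x := by group
    rw [hc, Subgroup.mem_bot] at h1
    have h2 : g = l := by
      rw [← inv_mul_eq_one]; exact h1
    rw [h2]
    exact l.2
  · intro hg
    exact ⟨⟨g, hg⟩, by ext x; simp [MulAut.conj_apply]⟩

/-- `D_n(Out L) = 1` implies `D_n(G) ≤ L`. -/
theorem derived_le [hL : L.Normal] (hc : centralizer (L : Set G) = ⊥) {n : ℕ} (hn : derivedSeries (Out ↥L) n = ⊥)
    (H : Subgroup G) : ∀ x : ↥H, x ∈ derivedSeries ↥H n → (x : G) ∈ L := by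
  intro x hx
  rw [← toOut_ker hc]
  have h1 := map_derivedSeries_le_derivedSeries ((toOut L).comp H.subtype) n
  have h2 : ((toOut L).comp H.subtype) x ∈ derivedSeries (Out ↥L) n := h1 ⟨x, hx, rfl⟩
  rw [hn, Subgroup.mem_bot] at h2
  exact h2

/-- if the image of `C_L(Z)` in the top section is nontrivial, then `Q ≤ L` -/
theorem Sit.Q_le [Finite G] [(pCore 2 (↥(centralizer (Z : Set G)) ⧸ Q)).Normal] (s : Sit Z Q L)
    (hne : ∃ m ∈ NL Z L, m ∉ Q) : Q ≤ NL Z L := by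
  have hLn := s.normal
  have hNn := NL_normal (Z := Z) s.normal
  rcases s.hyp.sub_dichotomy ((NL Z L).subgroupOf Q) (by
    intro m a ha
    rw [mem_subgroupOf] at ha ⊢
    exact hNn.conj_mem _ ha m) with h1 | h1
  · exfalso
    obtain ⟨m, hm, hmQ⟩ := hne
    obtain ⟨V, _, _, ⟨r⟩⟩ := s.hyp.exists_rep
    apply hmQ
    rw [← r.ker_iff s.hyp, r.ρ_eq_one_iff]
    intro x
    apply h1
    rw [mem_subgroupOf]
    change (x : ↥(centralizer (Z : Set G)))⁻¹ * (m * x * m⁻¹) ∈ NL Z L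
    have h2 : (x : ↥(centralizer (Z : Set G)))⁻¹ * (m * x * m⁻¹) = ((x : ↥(centralizer (Z : Set G)))⁻¹ * m * x) * m⁻¹ := by
      group
    rw [h2]
    have h3 := hNn.conj_mem m hm (x : ↥(centralizer (Z : Set G)))⁻¹
    rw [inv_inv] at h3
    exact mul_mem h3 (inv_mem hm)
  · intro x hx
    obtain ⟨a, ha, z, hz, hxa⟩ := h1 ⟨x, hx⟩
    have h2 : x = (a : ↥(centralizer (Z : Set G))) * z := congrArg Subtype.val hxa
    rw [h2]
    refine mul_mem ha ?_
    rw [mem_NL]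
    exact s.ZL (s.QZ z hz)

end Cfsg.Agent.H243
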