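import Mathlib
import Cfsg.Prelude.Def_Classical
import Cfsg.Agent.S0271
import Cfsg.Agent.LieClassical.SympCount
import Cfsg.Agent.LieClassical.SympCenter

/-!
# Elements of `Sp₄(3)`: a Sylow 3-subgroup and the stabilizer of a vector (helper243)
-/

set_option autoImplicit false

namespace Cfsg.Agent.H243.Sp43

open Matrix Subgroup Cfsg

abbrev F3 := ZMod 3
abbrev Sp := Matrix.symplecticGroup (Fin 2) F3
abbrev Mat := Matrix (Fin 2 ⊕ Fin 2) (Fin 2 ⊕ Fin 2) F3

/-- position in tables -/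
def ix : Fin 2 ⊕ Fin 2 → Fin 4 := Sum.elim ![0, 1] ![2, 3]

/-- matrix from a table -/
def toM (l : Fin 4 → Fin 4 → F3) : Mat := fun i j => l (ix i) (ix j)

instance (A : Mat) : Decidable (A ∈ Matrix.symplecticGroup (Fin 2) F3) :=
  decidable_of_iff _ SymplecticGroup.mem_iff.symm

/-- the unitriangular matrices -/
def uM (a b c d : F3) : Mat := toM ![![1, a, b - a * c, c], ![0, 1, c - a * d, d], ![0, 0, 1, 0], ![0, 0, -a, 1]]

theorem uM_mem : ∀ a b c d : F3, uM a b c d ∈ Matrix.symplecticGroup (Fin 2) F3 := by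
  decide +kernel

def uS (a b c d : F3) : Sp := ⟨uM a b c d, uM_mem a b c d⟩

theorem uM_inj {a b c d a' b' c' d' : F3} (h : uM a b c d = uM a' b' c' d') : a = a' ∧ b = b' ∧ c = c' ∧ d = d' := by
  have h1 := congrFun (congrFun h (Sum.inl 0)) (Sum.inl 1)
  have h2 := congrFun (congrFun h (Sum.inl 0)) (Sum.inr 0)
  have h3 := congrFun (congrFun h (Sum.inl 0)) (Sum.inr 1)
  have h4 := congrFun (congrFun h (Sum.inl 1)) (Sum.inr 1)
  simp [uM, toM, ix] at h1 h2 h3 h4
  subst h1 h3 h4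
  refine ⟨rfl, ?_, rfl, rfl⟩
  linear_combination h2

theorem uM_mul (a b c d a' b' c' d' : F3) : uM a b c d * uM a' b' c' d' =
    uM (a + a') (b + b' + 2 * a * c' + a * a * d') (c + c' + a * d') (d + d') := by
  ext i j
  rw [Matrix.mul_apply, Fintype.sum_sum_type, Fin.sum_univ_two, Fin.sum_univ_two]
  rcases i with i | i <;> rcases j with j | j <;> fin_cases i <;> fin_cases j <;>
    simp [uM, toM, ix] <;> ring

theorem uS_inj {a b c d a' b' c' d' : F3} (h : uS a b c d = uS a' b' c' d') : a = a' ∧ b = b' ∧ c = c' ∧ d = d' :=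
  uM_inj (congrArg Subtype.val h)

theorem uS_mul (a b c d a' b' c' d' : F3) : uS a b c d * uS a' b' c' d' =
    uS (a + a') (b + b' + 2 * a * c' + a * a * d') (c + c' + a * d') (d + d') :=
  Subtype.ext (uM_mul a b c d a' b' c' d')

theorem uM_zero : uM 0 0 0 0 = 1 := by decide +kernel

theorem uS_zero : uS 0 0 0 0 = 1 := Subtype.ext uM_zero

/-- A Sylow 3-subgroup of `Sp₄(3)`. -/
def U : Subgroup Sp where
  carrier := {g | ∃ a b c d, g = uS a b c d}
  one_mem' := ⟨0, 0, 0, 0, uS_zero.symm⟩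
  mul_mem' := by
    rintro _ _ ⟨a, b, c, d, rfl⟩ ⟨a', b', c', d', rfl⟩
    exact ⟨_, _, _, _, uS_mul a b c d a' b' c' d'⟩
  inv_mem' := by
    rintro _ ⟨a, b, c, d, rfl⟩
    refine ⟨-a, -b + 2 * a * c - a * a * d, -c + a * d, -d, ?_⟩
    rw [inv_eq_iff_mul_eq_one, uS_mul, ← uS_zero]
    congr 1 <;> ring

theorem mem_U {g : Sp} : g ∈ U ↔ ∃ a b c d, g = uS a b c d := Iff.rfl

theorem card_U : Nat.card ↥U = 81 := by
  have e : F3 × F3 × F3 × F3 ≃ ↥U := Equiv.ofBijective (fun p => ⟨uS p.1 p.2.1 p.2.2.1 p.2.2.2, _, _, _, _, rfl⟩) (by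
    constructor
    · rintro ⟨a, b, c, d⟩ ⟨a', b', c', d'⟩ h
      obtain ⟨h1, h2, h3, h4⟩ := uS_inj (congrArg Subtype.val h)
      simp only at h1 h2 h3 h4
      rw [h1, h2, h3, h4]
    · rintro ⟨_, a, b, c, d, rfl⟩
      exact ⟨(a, b, c, d), rfl⟩)
  rw [← Nat.card_congr e]
  simp

theorem card_Sp : Nat.card Sp = 51840 := by
  rw [LieClassical.SympCount.card_symplecticGroup, ZMod.card]
  decide

theorem card_cen : Nat.card ↥(center Sp) = 2 := by
  rw [LieClassical.SympCenter.card_center (by norm_num), ZMod.card]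
  rfl

/-- the projection -/
def π : Sp →* PSp 2 F3 := QuotientGroup.mk' _

theorem π_surj : Function.Surjective π := QuotientGroup.mk'_surjective _

theorem card_PSp : Nat.card (PSp 2 F3) = 25920 := by
  have h1 := Subgroup.card_eq_card_quotient_mul_card_subgroup (center Sp)
  rw [card_Sp, card_cen] at h1
  change Nat.card (Sp ⧸ center Sp) = _
  omega

theorem f3_sq : ∀ a : F3, a * a = 1 → a = 1 ∨ a = -1 := by decide

/-- equality in `PSp` -/
theorem π_eq {g h : Sp} (hgh : π g = π h) : g = h ∨ (g : Mat) = -(h : Mat) := by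
  have h1 : h⁻¹ * g ∈ center Sp := by
    have h2 := QuotientGroup.eq.1 hgh.symm
    exact h2
  obtain ⟨a, ha⟩ := (LieClassical.SympCenter.mem_center_iff 2 _).1 h1
  have ha' : (a • (1 : Mat)) ∈ Matrix.symplecticGroup (Fin 2) F3 := by rw [← ha]; exact (h⁻¹ * g).2
  have haa := LieClassical.SympCenter.sq_eq_one_of_smul_mem (by norm_num) ha'
  have hg : (g : Mat) = a • (h : Mat) := by
    have h3 : g = h * (h⁻¹ * g) := by group
    have h4 := congrArg Subtype.val h3
    rw [Submonoid.coe_mul, ha] at h4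
    rw [h4]
    simp
  rcases f3_sq a haa with rfl | rfl
  · left
    apply Subtype.ext
    rw [hg, one_smul]
  · right
    rw [hg, neg_smul, one_smul]

theorem f3_cases : ∀ c : F3, c = 0 ∨ c = 1 ∨ c = -1 := by decide

theorem ne_neg : ∀ a : F3, a ≠ 0 → a ≠ -a := by decide

/-- `V` -/
abbrev V := Fin 2 ⊕ Fin 2 → F3

/-- the first basis vector -/
def v0 : V := Pi.single (Sum.inl 0) 1

theorem v0_ne : v0 ≠ 0 := by
  intro h
  have := congrFun h (Sum.inl 0)
  simp [v0] at this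

/-- `Sp` acts on `V` -/
instance : MulAction Sp V where
  smul g v := (g : Mat) *ᵥ v
  one_smul v := Matrix.one_mulVec v
  mul_smul g h v := by
    change ((g * h : Sp) : Mat) *ᵥ v = (g : Mat) *ᵥ ((h : Mat) *ᵥ v)
    rw [Matrix.mulVec_mulVec]
    rfl

theorem smul_def (g : Sp) (v : V) : g • v = (g : Mat) *ᵥ v := rfl

/-- stabilizer of the first basis vector -/
def St : Subgroup Sp := MulAction.stabilizer Sp v0

theorem smul_ne_zero' (g : Sp) {v : V} (hv : v ≠ 0) : g • v ≠ 0 := by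
  intro h
  apply hv
  have h1 : g⁻¹ • (g • v) = g⁻¹ • (0 : V) := by rw [h]
  rw [inv_smul_smul] at h1
  rw [h1, smul_def, Matrix.mulVec_zero]

theorem orbit_v0 : MulAction.orbit Sp v0 = {v | v ≠ 0} := by
  ext v
  constructor
  · rintro ⟨g, rfl⟩
    exact smul_ne_zero' g v0_ne
  · intro hv
    obtain ⟨g, hg⟩ := Cfsg.Agent.S0271.result 2 v0 v v0_ne hv
    exact ⟨g, hg⟩

theorem card_St : Nat.card ↥St = 648 := by
  have h1 := MulAction.index_stabilizer Sp v0
  rw [orbit_v0] at h1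
  have h2 : ({v : V | v ≠ 0}).ncard = 80 := by
    rw [show {v : V | v ≠ 0} = {0}ᶜ from rfl, Set.ncard_compl, Set.ncard_singleton]
    simp [Nat.card_eq_fintype_card, ZMod.card]
  have h3 := Subgroup.card_mul_index St
  have h4 : St.index = 80 := by rw [← h2, ← h1]; rfl
  rw [h4, card_Sp] at h3
  omega

theorem mem_St {g : Sp} : g ∈ St ↔ (g : Mat) *ᵥ v0 = v0 := Iff.rfl

theorem mulVec_v0 (A : Mat) (i : Fin 2 ⊕ Fin 2) : (A *ᵥ v0) i = A i (Sum.inl 0) := by
  simp [v0]

theorem U_le_St : U ≤ St := by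
  rintro _ ⟨a, b, c, d, rfl⟩
  rw [mem_St]
  ext i
  rw [mulVec_v0]
  rcases i with i | i <;> fin_cases i <;> simp [uS, uM, toM, ix, v0]

/-- `π` is injective on `St`. -/
theorem π_inj_St {g h : Sp} (hg : g ∈ St) (hh : h ∈ St) (hgh : π g = π h) : g = h := by
  rcases π_eq hgh with h1 | h1
  · exact h1
  · exfalso
    rw [mem_St] at hg hh
    have h2 : (g : Mat) *ᵥ v0 = -((h : Mat) *ᵥ v0) := by rw [h1, Matrix.neg_mulVec]
    rw [hg, hh] at h2
    have h3 := congrFun h2 (Sum.inl 0)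
    simp [v0] at h3
    exact absurd h3 (by decide)

/-- the transvection -/
def τ : Sp := uS 0 1 0 0

theorem τ_mulVec (v : V) : (τ : Mat) *ᵥ v = v + v (Sum.inr 0) • v0 := by
  ext i
  rw [Matrix.mulVec, dotProduct, Fintype.sum_sum_type, Fin.sum_univ_two, Fin.sum_univ_two]
  rcases i with i | i <;> fin_cases i <;> simp [τ, uS, uM, toM, ix, v0]

/-- Elements commuting with `τ` up to sign fix `v0` up to sign. -/
theorem cent_τ {g : Sp} (h : π g * π τ = π τ * π g) : (g : Mat) *ᵥ v0 = v0 ∨ (g : Mat) *ᵥ v0 = -v0 := by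
  rw [← map_mul, ← map_mul] at h
  -- `g e1 = c e1`
  have key : ∀ c : F3, (g : Mat) *ᵥ v0 = c • v0 → (g : Mat) *ᵥ v0 = v0 ∨ (g : Mat) *ᵥ v0 = -v0 := by
    intro c hc
    rcases f3_cases c with rfl | rfl | rfl
    · exfalso
      rw [zero_smul] at hc
      exact smul_ne_zero' g v0_ne hc
    · left; rw [hc, one_smul]
    · right; rw [hc, neg_smul, one_smul]
  rcases π_eq h with h1 | h1
  · have h2 : ∀ v : V, (g : Mat) *ᵥ ((τ : Mat) *ᵥ v) = (τ : Mat) *ᵥ ((g : Mat) *ᵥ v) := by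
      intro v
      have := congrArg Subtype.val h1
      rw [Submonoid.coe_mul, Submonoid.coe_mul] at this
      rw [Matrix.mulVec_mulVec, Matrix.mulVec_mulVec, this]
    have h3 := h2 (Pi.single (Sum.inr 0) 1)
    rw [τ_mulVec, τ_mulVec, Matrix.mulVec_add] at h3
    have h4 := add_left_cancel h3
    rw [Pi.single_eq_same, one_smul] at h4
    exact key _ h4
  · exfalso
    have h2 : ∀ v : V, (g : Mat) *ᵥ ((τ : Mat) *ᵥ v) = -((τ : Mat) *ᵥ ((g : Mat) *ᵥ v)) := by
      intro v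
      rw [Submonoid.coe_mul, Submonoid.coe_mul] at h1
      rw [Matrix.mulVec_mulVec, Matrix.mulVec_mulVec, h1, Matrix.neg_mulVec]
    have h3 := h2 v0
    have h30 : v0 (Sum.inr 0) = 0 := by simp [v0]
    rw [τ_mulVec, τ_mulVec, h30, zero_smul, add_zero] at h3
    -- `2 g v0 = - c v0`
    generalize hw : (g : Mat) *ᵥ v0 = w at h3
    have hw0 : w ≠ 0 := by rw [← hw]; exact smul_ne_zero' g v0_ne
    apply hw0
    have e : ∀ x c : F3, x = -(x + c * 0) → x = 0 := by decide
    have h0 : ∀ i, i ≠ Sum.inl 0 → w i = 0 := by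
      intro i hi
      have := congrFun h3 i
      have hi' : v0 i = 0 := by simp [v0, hi]
      rw [Pi.neg_apply, Pi.add_apply, Pi.smul_apply, hi', smul_eq_mul] at this
      exact e _ _ this
    have h5 : w (Sum.inr 0) = 0 := h0 _ (by simp)
    ext i
    by_cases hi : i = Sum.inl 0
    · have := congrFun h3 i
      rw [h5, zero_smul, add_zero, Pi.neg_apply] at this
      by_contra hne
      exact ne_neg _ hne this
    · exact h0 i hi

end Cfsg.Agent.H243.Sp43
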